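import Mathlib.FieldTheory.Finite.Basic
import Mathlib.FieldTheory.Fixed
import Mathlib.Dynamics.PeriodicPts.Lemmas
import Mathlib.Tactic.Group
import Mathlib.Tactic.Ring
import Cfsg.Agent.Mrg.Omega.NO3b.K0.FullOff
import Cfsg.Agent.Mrg.Omega.NO3S.Fld.LineOf

-- merged: Cfsg.Agent.Omega.NO3S.Fld.RedFld
section

/-!
# Fld, THEOREM RED (#15355), part (1): the layers of the field `F` under an automorphism `σ` of order `2^ε`

`dl σ = σ - 1`, `K σ s = ker (σ - 1)^s`.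

* `dl_two_pow` : `(σ - 1)^(2^i) = σ^(2^i) - 1`;
* `card_K` : `|K σ s| = |K σ 1|^s` for `s ≤ 2^ε`; `exists_dl` : `(σ - 1)^t : K σ (t + s) → K σ s` is surjective;
* `le_gcd`, `gcd_lt` : fixed points of `σ^k`;
* `kind0`, `kind1` : the action of `σ^(tk)` modulo `K σ (s - 2t)`;
* `card_eq_pow` : `|F| = |K σ 1|^m`, `m` the order of `σ`.
-/

set_option autoImplicit false
set_option linter.unusedSectionVars false

namespace Cfsg.Agent.Omega.NO3S.Fld.Red

section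

variable {F : Type*} [Field F]

/-- `σ - 1` -/
def dl (σ : F ≃+* F) (x : F) : F := σ x + x

variable (σ : F ≃+* F)

theorem dl_add (x y : F) : dl σ (x + y) = dl σ x + dl σ y := by
  unfold dl; rw [map_add]; ring

theorem dl_zero : dl σ 0 = 0 := by
  unfold dl; rw [map_zero, add_zero]

theorem it_add (n : ℕ) (x y : F) : (dl σ)^[n] (x + y) = (dl σ)^[n] x + (dl σ)^[n] y := by
  induction n generalizing x y with
  | zero => rfl
  | succ n ih => rw [Function.iterate_succ_apply, Function.iterate_succ_apply, Function.iterate_succ_apply,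
      dl_add, ih]

theorem it_zero (n : ℕ) : (dl σ)^[n] 0 = 0 := by
  induction n with
  | zero => rfl
  | succ n ih => rw [Function.iterate_succ_apply, dl_zero, ih]

theorem sg_add (n : ℕ) (x y : F) : σ^[n] (x + y) = σ^[n] x + σ^[n] y := by
  induction n generalizing x y with
  | zero => rfl
  | succ n ih => rw [Function.iterate_succ_apply, Function.iterate_succ_apply, Function.iterate_succ_apply,
      map_add, ih]

theorem dl_sg (x : F) : dl σ (σ x) = σ (dl σ x) := by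
  unfold dl; rw [map_add]

theorem it_sg (n : ℕ) (x : F) : (dl σ)^[n] (σ x) = σ ((dl σ)^[n] x) := by
  induction n generalizing x with
  | zero => rfl
  | succ n ih => rw [Function.iterate_succ_apply, Function.iterate_succ_apply, dl_sg, ih]

theorem it_it (n k : ℕ) (x : F) : (dl σ)^[n] (σ^[k] x) = σ^[k] ((dl σ)^[n] x) := by
  induction k generalizing x with
  | zero => rfl
  | succ k ih => rw [Function.iterate_succ_apply, Function.iterate_succ_apply, ih, it_sg]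

theorem it_neg (n : ℕ) (x : F) : (dl σ)^[n] (-x) = -(dl σ)^[n] x := by
  have h := it_add σ n (-x) x
  rw [neg_add_cancel, it_zero] at h
  exact eq_neg_of_add_eq_zero_left h.symm

/-- `ker (σ - 1)^s` -/
def K (s : ℕ) : AddSubgroup F where
  carrier := {x | (dl σ)^[s] x = 0}
  zero_mem' := it_zero σ s
  add_mem' := by
    intro a b ha hb
    show (dl σ)^[s] (a + b) = 0
    rw [it_add, ha, hb, add_zero]
  neg_mem' := by
    intro a ha
    show (dl σ)^[s] (-a) = 0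
    rw [it_neg, ha, neg_zero]

theorem mem_K {s : ℕ} {x : F} : x ∈ K σ s ↔ (dl σ)^[s] x = 0 := Iff.rfl

theorem mem_K_zero {x : F} : x ∈ K σ 0 ↔ x = 0 := Iff.rfl

theorem mem_K_add {s t : ℕ} {x : F} : x ∈ K σ (s + t) ↔ (dl σ)^[t] x ∈ K σ s := by
  rw [mem_K, mem_K, Function.iterate_add_apply]

theorem K_mono {s t : ℕ} (h : s ≤ t) : K σ s ≤ K σ t := by
  intro x hx
  obtain ⟨k, rfl⟩ := Nat.exists_eq_add_of_le h
  rw [mem_K, add_comm, Function.iterate_add_apply, (mem_K σ).1 hx, it_zero]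

theorem sg_mem_K {s : ℕ} {x : F} (h : x ∈ K σ s) : σ x ∈ K σ s := by
  rw [mem_K, it_sg, (mem_K σ).1 h, map_zero]

theorem its_mem_K {s : ℕ} (k : ℕ) {x : F} (h : x ∈ K σ s) : σ^[k] x ∈ K σ s := by
  induction k generalizing x with
  | zero => exact h
  | succ k ih => rw [Function.iterate_succ_apply]; exact ih (sg_mem_K σ h)

theorem dl_mem_K {s : ℕ} {x : F} (h : x ∈ K σ (s + 1)) : dl σ x ∈ K σ s := (mem_K_add σ).1 h

variable [CharP F 2]

theorem two_self (x : F) : x + x = 0 := CharTwo.add_self_eq_zero x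

theorem mem_K_one {x : F} : x ∈ K σ 1 ↔ σ x = x := by
  rw [mem_K]
  show σ x + x = 0 ↔ _
  rw [CharTwo.add_eq_zero]

theorem dl_two_pow (i : ℕ) (x : F) : (dl σ)^[2 ^ i] x = σ^[2 ^ i] x + x := by
  induction i generalizing x with
  | zero => rfl
  | succ i ih =>
    rw [pow_succ, mul_two, Function.iterate_add_apply, ih x, ih, sg_add, Function.iterate_add_apply]
    have := two_self (σ^[2 ^ i] x)
    calc σ^[2 ^ i] (σ^[2 ^ i] x) + σ^[2 ^ i] x + (σ^[2 ^ i] x + x)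
        = σ^[2 ^ i] (σ^[2 ^ i] x) + (σ^[2 ^ i] x + σ^[2 ^ i] x) + x := by ring
      _ = _ := by rw [this, add_zero]

theorem mem_K_two_pow {i : ℕ} {x : F} : x ∈ K σ (2 ^ i) ↔ σ^[2 ^ i] x = x := by
  rw [mem_K, dl_two_pow, CharTwo.add_eq_zero]

/-- `σ^k x - x ∈ K (s - 1)` for `x ∈ K s`. -/
theorem sub_mem_K (k : ℕ) {s : ℕ} {x : F} (h : x ∈ K σ (s + 1)) : σ^[k] x + x ∈ K σ s := by
  induction k with
  | zero =>
    show x + x ∈ _
    rw [two_self]; exact (K σ s).zero_mem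
  | succ k ih =>
    have e : σ^[k + 1] x + x = σ (σ^[k] x + x) + dl σ x := by
      rw [Function.iterate_succ_apply', map_add]
      unfold dl
      have := two_self (σ x)
      calc σ (σ^[k] x) + x = σ (σ^[k] x) + (σ x + σ x) + x := by rw [this, add_zero]
        _ = _ := by ring
    rw [e]
    exact add_mem (sg_mem_K σ ih) (dl_mem_K σ h)

/-- `σ^(tk)`, `k` even -/
theorem kind0 {i : ℕ} (j : ℕ) {s : ℕ} {x : F} (h : x ∈ K σ (s + 2 * 2 ^ i)) :
    σ^[2 ^ i * (2 * j)] x + x ∈ K σ s := by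
  induction j with
  | zero =>
    show x + x ∈ _
    rw [two_self]; exact (K σ s).zero_mem
  | succ j ih =>
    have e0 : 2 ^ i * (2 * (j + 1)) = 2 ^ (i + 1) + 2 ^ i * (2 * j) := by rw [pow_succ]; ring
    have e1 : (dl σ)^[2 * 2 ^ i] x = σ^[2 ^ (i + 1)] x + x := by
      rw [← pow_succ', dl_two_pow]
    have e : σ^[2 ^ i * (2 * (j + 1))] x + x = σ^[2 ^ (i + 1)] (σ^[2 ^ i * (2 * j)] x + x) +
        (dl σ)^[2 * 2 ^ i] x := by
      rw [e0, Function.iterate_add_apply, e1, sg_add]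
      have := two_self (σ^[2 ^ (i + 1)] x)
      calc σ^[2 ^ (i + 1)] (σ^[2 ^ i * (2 * j)] x) + x =
          σ^[2 ^ (i + 1)] (σ^[2 ^ i * (2 * j)] x) + (σ^[2 ^ (i + 1)] x + σ^[2 ^ (i + 1)] x) + x := by
            rw [this, add_zero]
        _ = _ := by ring
    rw [e]
    exact add_mem (its_mem_K σ _ ih) ((mem_K_add σ).1 h)

/-- `σ^(tk)`, `k` odd -/
theorem kind1 {i : ℕ} (j : ℕ) {s : ℕ} {x : F} (h : x ∈ K σ (s + 2 * 2 ^ i)) :
    σ^[2 ^ i * (2 * j + 1)] x + x + (dl σ)^[2 ^ i] x ∈ K σ s := by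
  have e0 : 2 ^ i * (2 * j + 1) = 2 ^ i + 2 ^ i * (2 * j) := by ring
  have e : σ^[2 ^ i * (2 * j + 1)] x + x + (dl σ)^[2 ^ i] x = σ^[2 ^ i] (σ^[2 ^ i * (2 * j)] x + x) := by
    rw [e0, Function.iterate_add_apply, dl_two_pow, sg_add]
    have := two_self x
    calc σ^[2 ^ i] (σ^[2 ^ i * (2 * j)] x) + x + (σ^[2 ^ i] x + x) =
        σ^[2 ^ i] (σ^[2 ^ i * (2 * j)] x) + σ^[2 ^ i] x + (x + x) := by ring
      _ = _ := by rw [this, add_zero]
  rw [e]
  exact its_mem_K σ _ (kind0 σ j h)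

end

/-! ### Orders -/

section card

variable {F : Type*} [Field F] [Finite F] [CharP F 2] (σ : F ≃+* F)

/-- `|K (t + s)| ≤ |K t| |K s|`, with equality iff `(σ-1)^t` maps `K (t+s)` onto `K s` -/
theorem card_add_le (t s : ℕ) : Nat.card (K σ (t + s)) ≤ Nat.card (K σ t) * Nat.card (K σ s) ∧
    (Nat.card (K σ (t + s)) = Nat.card (K σ t) * Nat.card (K σ s) →
      ∀ y ∈ K σ s, ∃ x ∈ K σ (t + s), (dl σ)^[t] x = y) := by
  let f : K σ (t + s) →+ K σ s :=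
    { toFun := fun x => ⟨(dl σ)^[t] x, (mem_K_add σ).1 (by rw [add_comm]; exact x.2)⟩
      map_zero' := Subtype.ext (it_zero σ t)
      map_add' := fun x y => Subtype.ext (it_add σ t x y) }
  have h1 : Nat.card f.ker = Nat.card (K σ t) := by
    refine Nat.card_congr ⟨fun x => ⟨x.1.1, ?_⟩, fun x => ⟨⟨x.1, K_mono σ (Nat.le_add_right t s) x.2⟩, ?_⟩,
      fun x => rfl, fun x => rfl⟩
    · have := x.2
      rw [AddMonoidHom.mem_ker] at this
      exact congrArg Subtype.val this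
    · rw [AddMonoidHom.mem_ker]
      exact Subtype.ext x.2
  have h2 : Nat.card (K σ (t + s)) = Nat.card f.ker * Nat.card f.range := by
    have h3 := f.ker.card_mul_index
    rw [← h3, AddSubgroup.index_ker]
  have h3 : Nat.card f.range ≤ Nat.card (K σ s) := Nat.card_le_card_of_injective _ Subtype.val_injective
  refine ⟨?_, ?_⟩
  · rw [h2, h1]
    exact Nat.mul_le_mul_left _ h3
  · intro h4 y hy
    rw [h2, h1] at h4
    have h5 : Nat.card f.range = Nat.card (K σ s) := Nat.eq_of_mul_eq_mul_left Nat.card_pos h4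
    have h6 : f.range = ⊤ := by
      rw [← AddSubgroup.card_eq_iff_eq_top]
      exact h5
    obtain ⟨x, hx⟩ := AddMonoidHom.range_eq_top.1 h6 ⟨y, hy⟩
    exact ⟨x.1, x.2, congrArg Subtype.val hx⟩

theorem card_K_zero : Nat.card (K σ 0) = 1 := by
  have : K σ 0 = ⊥ := by
    rw [eq_bot_iff]
    intro x hx
    exact hx
  rw [this]
  exact AddSubgroup.card_bot

theorem card_le (s : ℕ) : Nat.card (K σ s) ≤ Nat.card (K σ 1) ^ s := by
  induction s with
  | zero => rw [card_K_zero, pow_zero]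
  | succ s ih =>
    rw [pow_succ]
    exact (card_add_le σ s 1).1.trans (Nat.mul_le_mul_right _ ih)

theorem two_le_card_K_one : 2 ≤ Nat.card (K σ 1) := by
  have h1 : (1 : F) ∈ K σ 1 := by
    rw [mem_K_one]
    exact map_one σ
  have h2 : Nontrivial (K σ 1) := ⟨⟨1, h1⟩, 0, fun h => one_ne_zero (congrArg Subtype.val h)⟩
  exact Finite.one_lt_card_iff_nontrivial.2 h2

variable {σ} {ε : ℕ}

theorem K_top (per : ∀ x, σ^[2 ^ ε] x = x) : K σ (2 ^ ε) = ⊤ := by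
  rw [eq_top_iff]
  intro x _
  rw [mem_K_two_pow, per]

/-- the layers -/
structure Lay (σ : F ≃+* F) (ε : ℕ) : Prop where
  per : ∀ x, σ^[2 ^ ε] x = x
  card : Nat.card F = Nat.card (K σ 1) ^ 2 ^ ε

variable (h : Lay σ ε)
include h

theorem Lay.card_K {s : ℕ} (hs : s ≤ 2 ^ ε) : Nat.card (K σ s) = Nat.card (K σ 1) ^ s := by
  refine le_antisymm (card_le σ s) ?_
  obtain ⟨k, hk⟩ := Nat.exists_eq_add_of_le hs
  have h1 := (card_add_le σ s k).1
  rw [← hk, K_top h.per, AddSubgroup.card_top, h.card, hk, pow_add] at h1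
  have h2 := card_le σ k
  have h3 : 0 < Nat.card (K σ 1) ^ k := Nat.pow_pos (by have := two_le_card_K_one σ; omega)
  exact Nat.le_of_mul_le_mul_right (h1.trans (Nat.mul_le_mul_left _ h2)) h3

/-- `(σ - 1)^t` maps `K (t + s)` onto `K s` -/
theorem Lay.exists_dl {t s : ℕ} (hs : t + s ≤ 2 ^ ε) {y : F} (hy : y ∈ K σ s) :
    ∃ x ∈ K σ (t + s), (dl σ)^[t] x = y := by
  refine (card_add_le σ t s).2 ?_ y hy
  rw [h.card_K hs, h.card_K (s := t) (by omega), h.card_K (s := s) (by omega), pow_add]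

theorem Lay.le_of_K_le {s g : ℕ} (hs : s ≤ 2 ^ ε) (hK : K σ s ≤ K σ g) : s ≤ g := by
  by_contra hcon
  have h1 : Nat.card (K σ s) ≤ Nat.card (K σ g) := Nat.card_mono (Set.toFinite _) hK
  rw [h.card_K hs, h.card_K (s := g) (by omega)] at h1
  exact hcon ((Nat.pow_le_pow_iff_right (by have := two_le_card_K_one σ; omega)).1 h1)

/-- `σ^k` trivial on `K t`: `t ≤ gcd (k, 2^ε)`. -/
theorem Lay.le_gcd {k t : ℕ} (ht : t ≤ 2 ^ ε) (hk : ∀ x ∈ K σ t, σ^[k] x = x) : t ≤ k.gcd (2 ^ ε) := by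
  obtain ⟨j, -, hj⟩ := (Nat.dvd_prime_pow Nat.prime_two).1 (Nat.gcd_dvd_right k (2 ^ ε))
  apply h.le_of_K_le ht
  intro x hx
  rw [hj, mem_K_two_pow, ← hj]
  have h1 : Function.IsPeriodicPt σ k x := hk x hx
  have h2 : Function.IsPeriodicPt σ (2 ^ ε) x := h.per x
  exact h1.gcd h2

/-- `σ^k` nontrivial on `K (t + 1)`: `gcd (k, 2^ε) ≤ t`. -/
theorem Lay.gcd_le {k t : ℕ} (hk : ∃ x ∈ K σ (t + 1), σ^[k] x ≠ x) : k.gcd (2 ^ ε) ≤ t := by
  obtain ⟨j, -, hj⟩ := (Nat.dvd_prime_pow Nat.prime_two).1 (Nat.gcd_dvd_right k (2 ^ ε))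
  obtain ⟨x, hx, hne⟩ := hk
  by_contra hcon
  apply hne
  have h1 : x ∈ K σ (2 ^ j) := K_mono σ (by omega) hx
  rw [mem_K_two_pow] at h1
  obtain ⟨c, hc⟩ := hj ▸ Nat.gcd_dvd_left k (2 ^ ε)
  rw [hc]
  have h2 : Function.IsPeriodicPt σ (2 ^ j) x := h1
  exact h2.mul_const c

end card

/-! ### `|F| = |F_0|^m` -/

section artin

variable {F : Type*} [Field F] [Finite F] [CharP F 2]

/-- **Artin**: `|F| = |C_F(σ)|^m`, `m` the order of `σ`. -/
theorem card_eq_pow (σ : F ≃+* F) : Nat.card F = Nat.card (K σ 1) ^ orderOf σ := by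
  classical
  have hfin : Finite (F ≃+* F) := Finite.of_injective (fun f : F ≃+* F => (f : F → F)) DFunLike.coe_injective
  have _ : Fintype (Subgroup.zpowers σ) := Fintype.ofFinite _
  have hfs : FaithfulSMul (Subgroup.zpowers σ) F :=
    ⟨fun {a b} h => Subtype.ext (RingEquiv.ext fun x => h x)⟩
  have h1 := FixedPoints.finrank_eq_card (Subgroup.zpowers σ) F
  have h2 : Module.finrank (FixedPoints.subfield (Subgroup.zpowers σ) F) F = orderOf σ := by
    rw [h1, ← Nat.card_eq_fintype_card, Nat.card_zpowers]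
  have h3 := Module.natCard_eq_pow_finrank (K := FixedPoints.subfield (Subgroup.zpowers σ) F) (V := F)
  rw [h2] at h3
  rw [h3]
  congr 1
  refine Nat.card_congr ⟨fun x => ⟨x.1, ?_⟩, fun x => ⟨x.1, ?_⟩, fun x => rfl, fun x => rfl⟩
  · rw [mem_K_one]
    exact x.2 ⟨σ, Subgroup.mem_zpowers σ⟩
  · rintro ⟨g, hg⟩
    obtain ⟨k, rfl⟩ := Subgroup.mem_zpowers_iff.1 hg
    have h4 : σ ∈ MulAction.stabilizer (F ≃+* F) (x.1 : F) := (mem_K_one σ).1 x.2
    exact (MulAction.stabilizer (F ≃+* F) (x.1 : F)).zpow_mem h4 k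

theorem coe_pow_eq (σ : F ≃+* F) (k : ℕ) (x : F) : (σ ^ k) x = σ^[k] x := by
  induction k generalizing x with
  | zero => rfl
  | succ k ih => rw [pow_succ, Function.iterate_succ_apply, ← ih]; rfl

theorem lay_of {σ : F ≃+* F} {ε : ℕ} (h : orderOf σ = 2 ^ ε) : Lay σ ε where
  per x := by
    rw [← coe_pow_eq, ← h, pow_orderOf_eq_one]; rfl
  card := by rw [← h]; exact card_eq_pow σ

end artin

end Cfsg.Agent.Omega.NO3S.Fld.Red

end

-- merged: Cfsg.Agent.Mrg.Omega.NO3S.Fld.RedMod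
section

section


/-!
# Fld, THEOREM RED (#15355), part (1): noncentral chief factors of `X` in `W = ⟨R^X⟩`

`R = e(F)` is the point, `S` acts on `R` through powers of `σ`, `X` is a minimal parabolic over `S` which centralises
`C_R(S)` and moves `R`; `E = O²(X)`, `Q = O₂(X)`, `O = [Q, E]`.

* `Md F S X R` : the situation;
* `layer` : the LAYER LEMMA;
* `Md.two_sections`, `Md.three_sections` : two (three) noncentral sections in `W`.
-/

set_option autoImplicit false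
set_option linter.unusedSectionVars false

namespace Cfsg.Agent.Omega.NO3S.Fld.Red

open Subgroup Cfsg Cfsg.Agent.ZN Cfsg.Agent.ZN.ChoiceBase Cfsg.Agent.ZN.ChoiceSit
open Cfsg.Agent.MinSimple.VModule (oddGen oddGen_le mem_oddGen le_normalizer_oddGen oddGen_le_of_sup)
open Cfsg.Agent.Omega.NO3b.EZero (cl cj_le_cl le_cl cl_le cj_cl le_normalizer_cl le_normalizer_inf_cent
  oddGen_sup_syl)
open Cfsg.Agent.Omega.NO3b.K0 (min_or NoOv oddGen_oddGen)
open Cfsg.Agent.Omega.NO3S.NotFF (le_normalizer_of_forall conj_mem comm_mem_right comm_mem_left normalizer_inf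
  normalizer_centralizer normalizer_commutator le_normalizer_bot commutator_le_of_odd
  le_centralizer_of_commutator commutator_commutator_eq)
open scoped commutatorElement

universe u

variable {G : Type u} [Group G]

/-- **LAYER LEMMA.** `O = [O, E]`, `r` in the abelian group `W`, `N, N₁ ≤ W`, `[N, O] ≤ N₁`, `N₁` normalised by `E`,
`O₁ = {o ∈ O : [r, o] ∈ N₁}` a subgroup with `|O : O₁| = 2`: `E` moves `r` modulo `N`. -/
theorem layer {E O W N N1 O1 : Subgroup G} {r : G} (hOO : O ≤ ⁅O, E⁆) (hEO : E ≤ normalizer (O : Set G))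
    (hW : W ≤ centralizer (W : Set G)) (hN1W : N1 ≤ W) (hrW : r ∈ W)
    (hEN1 : E ≤ normalizer (N1 : Set G)) (hON : ∀ w ∈ N, ∀ o ∈ O, ⁅w, o⁆ ∈ N1)
    (h2 : ∀ a ∈ O, ∀ b ∈ O, a ∉ O1 → b ∉ O1 → a * b ∈ O1) (hne : ∃ o ∈ O, o ∉ O1)
    (hr1 : ∀ o ∈ O, ⁅r, o⁆ ∈ N1 ↔ o ∈ O1) (hE : ∀ e ∈ E, r⁻¹ * (e * r * e⁻¹) ∈ N) : False := by
  -- `O₁` is invariant
  have key : ∀ e ∈ E, ∀ o ∈ O, (e * o * e⁻¹ ∈ O1 ↔ o ∈ O1) := by
    intro e he o ho
    have ho' : e * o * e⁻¹ ∈ O := conj_mem hEO he ho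
    set r' := e * r * e⁻¹ with hr'
    -- first computation
    have h3 : ⁅r', e * o * e⁻¹⁆ = e * ⁅r, o⁆ * e⁻¹ := by
      rw [hr']; simp only [commutatorElement_def]; group
    have h4 : ⁅r', e * o * e⁻¹⁆ ∈ N1 ↔ ⁅r, o⁆ ∈ N1 := by
      rw [h3]
      exact ((mem_normalizer_iff.1 (hEN1 he)) _).symm
    -- second computation
    have h5 : ∀ o ∈ O, (⁅r', o⁆ ∈ N1 ↔ ⁅r, o⁆ ∈ N1) := by
      intro o ho
      have h6 := hON _ (hE e he) o ho
      have e1 : ⁅r', o⁆ = r * ⁅r⁻¹ * (e * r * e⁻¹), o⁆ * r⁻¹ * ⁅r, o⁆ := by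
        rw [hr']; simp only [commutatorElement_def]; group
      have e2 : r * ⁅r⁻¹ * (e * r * e⁻¹), o⁆ * r⁻¹ = ⁅r⁻¹ * (e * r * e⁻¹), o⁆ := by
        rw [← mem_centralizer_iff.1 (hW hrW) _ (hN1W h6), mul_inv_cancel_right]
      rw [e1, e2]
      exact N1.mul_mem_cancel_left h6
    rw [← hr1 _ ho', ← hr1 _ ho, ← h5 _ ho', h4]
  obtain ⟨o, ho, hoO⟩ := hne
  apply hoO
  have h3 : ⁅O, E⁆ ≤ O1 := by
    rw [commutator_le]
    intro a ha e he
    have e1 : ⁅a, e⁆ = a * (e * a⁻¹ * e⁻¹) := by simp only [commutatorElement_def]; group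
    rw [e1]
    by_cases haO : a ∈ O1
    · exact O1.mul_mem haO ((key e he _ (O.inv_mem ha)).2 (O1.inv_mem haO))
    · refine h2 a ha _ (conj_mem hEO he (O.inv_mem ha)) haO fun h0 => haO ?_
      have := (key e he _ (O.inv_mem ha)).1 h0
      exact (O1.inv_mem_iff).1 this
  exact h3 (hOO ho)

/-- `{w ∈ W : [w, O] ≤ N₁}` -/
def pre (W O N1 : Subgroup G) (hW : W ≤ centralizer (W : Set G)) (hN : N1 ≤ W) : Subgroup G where
  carrier := {w | w ∈ W ∧ ∀ o ∈ O, ⁅w, o⁆ ∈ N1}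
  one_mem' := ⟨one_mem _, fun o _ => by rw [commutatorElement_one_left]; exact one_mem _⟩
  mul_mem' := by
    rintro a b ⟨ha, ha'⟩ ⟨hb, hb'⟩
    refine ⟨mul_mem ha hb, fun o ho => ?_⟩
    have e1 : ⁅a * b, o⁆ = a * ⁅b, o⁆ * a⁻¹ * ⁅a, o⁆ := by simp only [commutatorElement_def]; group
    have e2 : a * ⁅b, o⁆ * a⁻¹ = ⁅b, o⁆ := by
      rw [← mem_centralizer_iff.1 (hW ha) _ (hN (hb' o ho)), mul_inv_cancel_right]
    rw [e1, e2]
    exact mul_mem (hb' o ho) (ha' o ho)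
  inv_mem' := by
    rintro a ⟨ha, ha'⟩
    refine ⟨inv_mem ha, fun o ho => ?_⟩
    have e1 : ⁅a⁻¹, o⁆ = a⁻¹ * ⁅a, o⁆⁻¹ * a := by simp only [commutatorElement_def]; group
    have e2 : a⁻¹ * ⁅a, o⁆⁻¹ * a = ⁅a, o⁆⁻¹ := by
      rw [← mem_centralizer_iff.1 (hW (inv_mem ha)) _ (hN (inv_mem (ha' o ho))), inv_mul_cancel_right]
    rw [e1, e2]
    exact inv_mem (ha' o ho)

section pre

variable {W O N1 N2 X : Subgroup G} {hW : W ≤ centralizer (W : Set G)} {hN : N1 ≤ W} {hN' : N2 ≤ W}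

theorem pre_le : pre W O N1 hW hN ≤ W := fun _ h => h.1

theorem mem_pre {w : G} : w ∈ pre W O N1 hW hN ↔ w ∈ W ∧ ∀ o ∈ O, ⁅w, o⁆ ∈ N1 := Iff.rfl

theorem pre_mono (h : N1 ≤ N2) : pre W O N1 hW hN ≤ pre W O N2 hW hN' := fun _ hw => ⟨hw.1, fun o ho => h (hw.2 o ho)⟩

theorem normalizer_pre (hXW : X ≤ normalizer (W : Set G)) (hXO : X ≤ normalizer (O : Set G))
    (hXN : X ≤ normalizer (N1 : Set G)) : X ≤ normalizer ((pre W O N1 hW hN : Subgroup G) : Set G) := by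
  refine le_normalizer_of_forall fun x hx w hw => ⟨conj_mem hXW hx hw.1, fun o ho => ?_⟩
  have ho' : x⁻¹ * o * x ∈ O := by
    have := conj_mem hXO (inv_mem hx) ho
    rwa [inv_inv] at this
  have e : ⁅x * w * x⁻¹, o⁆ = x * ⁅w, x⁻¹ * o * x⁆ * x⁻¹ := by simp only [commutatorElement_def]; group
  rw [e]
  exact conj_mem hXN hx (hw.2 _ ho')

theorem pre_comm : ∀ w ∈ pre W O N1 hW hN, ∀ o ∈ O, ⁅w, o⁆ ∈ N1 := fun _ hw => hw.2

end pre

/-- The situation of (1) of THEOREM RED. -/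
structure Md (F : Type*) [Field F] (S X R : Subgroup G) where
  e : F → G
  e_add : ∀ x y, e (x + y) = e x * e y
  e_inj : Function.Injective e
  mem_iff : ∀ g, g ∈ R ↔ ∃ x, e x = g
  σ : F ≃+* F
  ε : ℕ
  per : ∀ x, σ^[2 ^ ε] x = x
  card : Nat.card F = Nat.card (K σ 1) ^ 2 ^ ε
  act : ∀ s ∈ S, ∃ k : ℕ, ∀ x, s * e x * s⁻¹ = e (σ^[k] x)
  cent : ∀ x ∈ K σ 1, e x ∈ centralizer (X : Set G)
  syl : Syl S X
  sq : ∀ u ∈ cl R X, u ^ 2 = 1
  comm : cl R X ≤ centralizer (cl R X : Set G)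
  RS : R ≤ S
  ff : cl R X ⊓ zc (o2 X) ≤ centralizer (oddGen X : Set G)
  nR : ¬ X ≤ normalizer (R : Set G)

namespace Md

variable {F : Type*} [Field F] {S X R : Subgroup G} (M : Md F S X R)

theorem e_zero : M.e 0 = 1 := by
  have h := M.e_add 0 0
  rw [add_zero] at h
  exact left_eq_mul.1 h

theorem e_eq_one {x : F} : M.e x = 1 ↔ x = 0 := by
  rw [← M.e_zero]
  exact M.e_inj.eq_iff

theorem e_neg (x : F) : M.e (-x) = (M.e x)⁻¹ := by
  have h := M.e_add (-x) x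
  rw [neg_add_cancel, M.e_zero] at h
  exact eq_inv_of_mul_eq_one_left h.symm

theorem e_mem (x : F) : M.e x ∈ R := (M.mem_iff _).2 ⟨x, rfl⟩

/-- `e(K s)` -/
def Rk (s : ℕ) : Subgroup G where
  carrier := {g | ∃ x ∈ K M.σ s, M.e x = g}
  one_mem' := ⟨0, zero_mem _, M.e_zero⟩
  mul_mem' := by
    rintro _ _ ⟨x, hx, rfl⟩ ⟨y, hy, rfl⟩
    exact ⟨x + y, add_mem hx hy, M.e_add x y⟩
  inv_mem' := by
    rintro _ ⟨x, hx, rfl⟩
    exact ⟨-x, neg_mem hx, M.e_neg x⟩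

theorem mem_Rk {s : ℕ} {x : F} : M.e x ∈ M.Rk s ↔ x ∈ K M.σ s :=
  ⟨fun ⟨_, hy, h⟩ => M.e_inj h ▸ hy, fun h => ⟨x, h, rfl⟩⟩

theorem Rk_le (s : ℕ) : M.Rk s ≤ R := by
  rintro _ ⟨x, -, rfl⟩
  exact M.e_mem x

theorem Rk_mono {s t : ℕ} (h : s ≤ t) : M.Rk s ≤ M.Rk t := by
  rintro _ ⟨x, hx, rfl⟩
  exact ⟨x, K_mono _ h hx, rfl⟩

theorem Rk_zero : M.Rk 0 = ⊥ := by
  rw [eq_bot_iff]
  rintro _ ⟨x, hx, rfl⟩
  rw [(mem_K_zero M.σ).1 hx, M.e_zero]
  exact one_mem _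

theorem S_Rk (s : ℕ) : S ≤ normalizer (M.Rk s : Set G) := by
  refine le_normalizer_of_forall fun a ha x hx => ?_
  obtain ⟨y, hy, rfl⟩ := hx
  obtain ⟨k, hk⟩ := M.act a ha
  rw [hk]
  exact ⟨_, its_mem_K _ _ hy, rfl⟩

include M in
theorem S_R : S ≤ normalizer (R : Set G) := by
  refine le_normalizer_of_forall fun a ha x hx => ?_
  obtain ⟨y, rfl⟩ := (M.mem_iff _).1 hx
  obtain ⟨k, hk⟩ := M.act a ha
  rw [hk]
  exact M.e_mem _

section two

variable [CharP F 2]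

theorem comm_e {o : G} {k : ℕ} (h : ∀ x, o * M.e x * o⁻¹ = M.e (M.σ^[k] x)) (x : F) :
    ⁅M.e x, o⁆ = M.e (M.σ^[k] x + x) := by
  have e1 : ⁅M.e x, o⁆ = M.e x * (o * M.e (-x) * o⁻¹) := by
    rw [M.e_neg]; simp only [commutatorElement_def]; group
  rw [e1, h, ← M.e_add]
  congr 1
  rw [CharTwo.neg_eq, add_comm]

theorem Rk_comm (s : ℕ) {x : F} (hx : x ∈ K M.σ (s + 1)) {o : G} (ho : o ∈ S) : ⁅M.e x, o⁆ ∈ M.Rk s := by
  obtain ⟨k, hk⟩ := M.act o ho
  rw [M.comm_e hk]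
  exact M.mem_Rk.2 (sub_mem_K _ k hx)

end two

section fin

variable [Finite G]

/-- `W = ⟨R^X⟩` -/
abbrev W (_ : Md F S X R) : Subgroup G := cl R X

/-- `E = O²(X)` -/
abbrev E (_ : Md F S X R) : Subgroup G := oddGen X

/-- `O = [O₂(X), O²(X)]` -/
abbrev O (_ : Md F S X R) : Subgroup G := ⁅o2 X, oddGen X⁆

theorem R_le_W : R ≤ M.W := le_cl R X

theorem isPGroup_W : IsPGroup 2 M.W := fun x => ⟨1, Subtype.ext (by simpa using M.sq x x.2)⟩

theorem X_W : X ≤ normalizer (M.W : Set G) := le_normalizer_cl R X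

theorem W_le_X : M.W ≤ X := cl_le fun x hx => by
  have h1 := cj_mono x (M.RS.trans M.syl.1)
  rwa [cj_eq_of_mem_normalizer (Subgroup.le_normalizer hx)] at h1

theorem W_le_Q : M.W ≤ o2 X := ChoiceSit.le_o2 M.isPGroup_W M.W_le_X M.X_W

include M in
theorem Q_le_S : o2 X ≤ S := o2_le_syl M.syl

include M in
theorem sup : oddGen X ⊔ S = X := oddGen_sup_syl M.syl

omit [Finite G] in
theorem X_O : X ≤ normalizer (M.O : Set G) :=
  normalizer_commutator (le_normalizer_o2 X) (le_normalizer_oddGen X)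

omit [Finite G] in
theorem O_le_Q : M.O ≤ o2 X := by
  rw [← le_normalizer_iff_commutator_le_left]
  exact (oddGen_le X).trans (le_normalizer_o2 X)

theorem O_le_S : M.O ≤ S := M.O_le_Q.trans M.Q_le_S

theorem O_le_E : M.O ≤ oddGen X := by
  rw [← le_normalizer_iff_commutator_le_right]
  exact (M.Q_le_S.trans M.syl.1).trans (le_normalizer_oddGen X)

theorem O_eq : M.O ≤ ⁅M.O, M.E⁆ :=
  (commutator_commutator_eq (oddGen_oddGen X) (ChoiceSit.isPGroup_o2 X)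
    ((oddGen_le X).trans (le_normalizer_o2 X))
    ((M.Q_le_S.trans M.syl.1).trans (le_normalizer_oddGen X))).ge

theorem nR' : ¬ R ≤ centralizer (M.E : Set G) := by
  intro h
  apply M.nR
  rw [← M.sup]
  exact sup_le ((le_centralizer_iff.1 h).trans (centralizer_le_normalizer _)) M.S_R

/-- the fixed layer is normal in `X` -/
theorem X_Rk {t : ℕ} (h : M.Rk t ≤ centralizer (M.E : Set G)) : X ≤ normalizer (M.Rk t : Set G) := by
  exact M.sup.ge.trans (sup_le ((le_centralizer_iff.1 h).trans (centralizer_le_normalizer _)) (M.S_Rk t))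

section two

variable [CharP F 2]

theorem Rk_top : M.Rk (2 ^ M.ε) = R := by
  apply le_antisymm (M.Rk_le _)
  intro g hg
  obtain ⟨x, rfl⟩ := (M.mem_iff _).1 hg
  rw [M.mem_Rk, mem_K_two_pow, M.per]

/-- the number `t` -/
theorem exists_t : ∃ t, 1 ≤ t ∧ t < 2 ^ M.ε ∧ M.Rk t ≤ centralizer (M.E : Set G) ∧
    ¬ M.Rk (t + 1) ≤ centralizer (M.E : Set G) := by
  classical
  have h1 : M.Rk 1 ≤ centralizer (M.E : Set G) := by
    rintro _ ⟨x, hx, rfl⟩
    exact centralizer_le (oddGen_le X) (M.cent x hx)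
  by_contra hcon
  push Not at hcon
  have key : ∀ t, t ≤ 2 ^ M.ε → M.Rk t ≤ centralizer (M.E : Set G) := by
    intro t
    induction t with
    | zero => exact fun _ => (M.Rk_mono (Nat.zero_le 1)).trans h1
    | succ t ih =>
      intro ht
      rcases Nat.eq_zero_or_pos t with rfl | ht0
      · exact h1
      · exact hcon t ht0 (by omega) (ih (by omega))
  have h2 := key _ le_rfl
  rw [M.Rk_top] at h2
  exact M.nR' h2

/-- `O` does not centralise `R^(t+1)`. -/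
theorem nO {t : ℕ} (h1 : M.Rk t ≤ centralizer (M.E : Set G)) (h2 : ¬ M.Rk (t + 1) ≤ centralizer (M.E : Set G)) :
    ¬ M.Rk (t + 1) ≤ centralizer (M.O : Set G) := by
  intro hO
  apply h2
  have hNW : M.Rk t ≤ M.W := (M.Rk_le t).trans M.R_le_W
  set T : Subgroup G := pre M.W (o2 X) (M.Rk t) M.comm hNW ⊓ centralizer (M.O : Set G) with hT
  have hXT : X ≤ normalizer (T : Set G) := normalizer_inf
    (normalizer_pre M.X_W (le_normalizer_o2 X) (M.X_Rk h1)) (normalizer_centralizer M.X_O)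
  have hTW : T ≤ M.W := inf_le_left.trans pre_le
  have hRT : M.Rk (t + 1) ≤ T := by
    refine le_inf ?_ hO
    rintro _ ⟨x, hx, rfl⟩
    exact ⟨M.R_le_W (M.e_mem x), fun o ho => M.Rk_comm t hx (M.Q_le_S ho)⟩
  refine hRT.trans ?_
  -- three subgroups
  have h3 : (⁅⁅M.E, o2 X⁆, T⁆ : Subgroup G) = ⊥ := by
    rw [commutator_comm M.E (o2 X), commutator_comm, commutator_eq_bot_iff_le_centralizer]
    exact inf_le_right
  have h4 : (⁅⁅o2 X, T⁆, M.E⁆ : Subgroup G) = ⊥ := by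
    rw [commutator_comm (o2 X) T, eq_bot_iff]
    have h40 : ⁅T, o2 X⁆ ≤ M.Rk t := commutator_le.2 fun w hw o ho => ((mem_inf.1 hw).1.2 o ho)
    refine (commutator_mono h40 le_rfl).trans ?_
    rw [le_bot_iff, commutator_eq_bot_iff_le_centralizer]
    exact h1
  have h5 : (⁅⁅T, M.E⁆, o2 X⁆ : Subgroup G) = ⊥ := commutator_commutator_eq_bot_of_rotate h3 h4
  rw [commutator_eq_bot_iff_le_centralizer] at h5
  have h6 : ⁅T, M.E⁆ ≤ T := by
    rw [← le_normalizer_iff_commutator_le_left]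
    exact (oddGen_le X).trans hXT
  have h7 : ⁅T, M.E⁆ ≤ zc (o2 X) := by
    intro g hg
    exact subset_closure ⟨⟨M.W_le_Q (hTW (h6 hg)), h5 hg⟩, M.sq g (hTW (h6 hg))⟩
  exact le_centralizer_of_commutator (oddGen_oddGen X) (M.isPGroup_W.to_le hTW) ((oddGen_le X).trans hXT)
    ((le_inf (h6.trans hTW) h7).trans M.ff)

/-- `o` acts on `R` as `σ^(tk)`, `k` even. -/
def Ev (i : ℕ) (o : G) : Prop := ∀ s, ∀ x ∈ K M.σ (s + 2 * 2 ^ i), ⁅M.e x, o⁆ ∈ M.Rk s

/-- `o` acts on `R` as `σ^(tk)`, `k` odd. -/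
def Od (i : ℕ) (o : G) : Prop := ∀ s, ∀ x ∈ K M.σ (s + 2 * 2 ^ i), ⁅M.e x, o⁆ * M.e ((dl M.σ)^[2 ^ i] x) ∈ M.Rk s

/-- `O` induces `⟨σ^t⟩` on `R`, `t = 2^i`. -/
theorem exists_i [Finite F] : ∃ i, 2 * 2 ^ i ≤ 2 ^ M.ε ∧ M.Rk (2 ^ i) ≤ centralizer (M.E : Set G) ∧
    ¬ M.Rk (2 ^ i + 1) ≤ centralizer (M.E : Set G) ∧
    (∀ o ∈ M.O, M.Ev i o ∨ M.Od i o) ∧ ∃ o ∈ M.O, M.Od i o := by
  have hl : Lay M.σ M.ε := ⟨M.per, M.card⟩
  obtain ⟨t, ht1, htm, hc, hnc⟩ := M.exists_t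
  have hnO := M.nO hc hnc
  -- elements of `O` are trivial on `K t`
  have h1 : ∀ o ∈ M.O, ∀ k, (∀ x, o * M.e x * o⁻¹ = M.e (M.σ^[k] x)) → t ≤ k.gcd (2 ^ M.ε) := by
    intro o ho k hk
    refine hl.le_gcd htm.le fun x hx => ?_
    have h2 : M.e x ∈ M.Rk t := M.mem_Rk.2 hx
    have h3 : o * M.e x = M.e x * o := mem_centralizer_iff.1 (hc h2) o (M.O_le_E ho)
    apply M.e_inj
    rw [← hk, h3, mul_inv_cancel_right]
  -- one element of `O` is nontrivial on `K (t + 1)`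
  obtain ⟨o0, ho0, k0, hk0, hg0⟩ : ∃ o ∈ M.O, ∃ k, (∀ x, o * M.e x * o⁻¹ = M.e (M.σ^[k] x)) ∧
      k.gcd (2 ^ M.ε) ≤ t := by
    by_contra hcon
    push Not at hcon
    apply hnO
    rintro _ ⟨x, hx, rfl⟩
    rw [mem_centralizer_iff]
    intro o ho
    obtain ⟨k, hk⟩ := M.act o (M.O_le_S ho)
    have h2 := hcon o ho k hk
    by_contra hne
    refine absurd (hl.gcd_le (k := k) (t := t) ⟨x, hx, fun h3 => hne ?_⟩) (not_le.2 h2)
    have h4 := hk x
    rw [h3] at h4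
    exact mul_inv_eq_iff_eq_mul.1 h4
  have hg : k0.gcd (2 ^ M.ε) = t := le_antisymm hg0 (h1 o0 ho0 k0 hk0)
  obtain ⟨i, hi, hti⟩ := (Nat.dvd_prime_pow Nat.prime_two).1 (hg ▸ Nat.gcd_dvd_right k0 (2 ^ M.ε))
  subst hti
  have hiε : i < M.ε := (Nat.pow_lt_pow_iff_right (by norm_num)).1 htm
  refine ⟨i, ?_, hc, hnc, ?_, o0, ho0, ?_⟩
  · rw [← pow_succ']
    exact Nat.pow_le_pow_right (by norm_num) hiε
  · intro o ho
    obtain ⟨k, hk⟩ := M.act o (M.O_le_S ho)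
    have h2 := h1 o ho k hk
    obtain ⟨j, -, hj⟩ := (Nat.dvd_prime_pow Nat.prime_two).1 (Nat.gcd_dvd_right k (2 ^ M.ε))
    rw [hj] at h2
    have h3 : 2 ^ i ∣ k := (pow_dvd_pow 2 ((Nat.pow_le_pow_iff_right (by norm_num)).1 h2)).trans
      (hj ▸ Nat.gcd_dvd_left k (2 ^ M.ε))
    obtain ⟨c, rfl⟩ := h3
    rcases Nat.even_or_odd' c with ⟨j', rfl | rfl⟩
    · left
      intro s x hx
      rw [M.comm_e hk]
      exact M.mem_Rk.2 (kind0 M.σ j' hx)
    · right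
      intro s x hx
      rw [M.comm_e hk, ← M.e_add]
      exact M.mem_Rk.2 (kind1 M.σ j' hx)
  · obtain ⟨c, hc0⟩ := hg ▸ Nat.gcd_dvd_left k0 (2 ^ M.ε)
    rcases Nat.even_or_odd' c with ⟨j', rfl | rfl⟩
    · exfalso
      have h3 : 2 ^ (i + 1) ∣ k0.gcd (2 ^ M.ε) := by
        refine Nat.dvd_gcd ⟨j', by rw [hc0, pow_succ]; ring⟩ (pow_dvd_pow 2 hiε)
      rw [hg] at h3
      have h4 := Nat.le_of_dvd (by positivity) h3
      rw [pow_succ] at h4
      have : 0 < 2 ^ i := by positivity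
      omega
    · subst hc0
      intro s x hx
      rw [M.comm_e hk0, ← M.e_add]
      exact M.mem_Rk.2 (kind1 M.σ j' hx)

section secs

variable [Finite F] {i : ℕ} (hi : 2 * 2 ^ i ≤ 2 ^ M.ε) (hk : ∀ o ∈ M.O, M.Ev i o ∨ M.Od i o)
  (hex : ∃ o ∈ M.O, M.Od i o)

/-- `O₁` -/
abbrev O1 (i : ℕ) : Subgroup G := M.O ⊓ centralizer (M.Rk (2 * 2 ^ i) : Set G)

theorem Ev.mem {o : G} (h : M.Ev i o) (ho : o ∈ M.O) : o ∈ M.O1 i := by
  refine ⟨ho, mem_centralizer_iff.2 ?_⟩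
  rintro _ ⟨x, hx, rfl⟩
  have h1 := h 0 x (by rw [zero_add]; exact hx)
  rw [M.Rk_zero, mem_bot] at h1
  exact (commutatorElement_eq_one_iff_mul_comm.1 h1)

include hi in
theorem Od.not_mem {o : G} (h : M.Od i o) : o ∉ M.O1 i := by
  intro ho
  have hl : Lay M.σ M.ε := ⟨M.per, M.card⟩
  have h1 : (1 : F) ∈ K M.σ (2 ^ i) := by
    apply K_mono M.σ (Nat.one_le_two_pow (n := i))
    rw [mem_K_one]; exact map_one _
  obtain ⟨x, hx, hx1⟩ := hl.exists_dl (t := 2 ^ i) (s := 2 ^ i) (by omega) h1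
  rw [← two_mul] at hx
  have h2 := h 0 x (by rw [zero_add]; exact hx)
  have h3 : ⁅M.e x, o⁆ = 1 := commutatorElement_eq_one_iff_mul_comm.2
    (mem_centralizer_iff.1 ho.2 _ (M.mem_Rk.2 hx))
  rw [h3, one_mul, hx1, M.Rk_zero, mem_bot, M.e_eq_one] at h2
  exact one_ne_zero h2

include hk in
theorem mul_mem_O1 {a b : G} (ha : a ∈ M.O) (hb : b ∈ M.O) (ha' : a ∉ M.O1 i) (hb' : b ∉ M.O1 i) :
    a * b ∈ M.O1 i := by
  have hao : M.Od i a := (hk a ha).resolve_left fun h => ha' (h.mem M ha)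
  have hbo : M.Od i b := (hk b hb).resolve_left fun h => hb' (h.mem M hb)
  have hm := mul_mem ha hb
  -- the action on `K (2t)`
  have key : ∀ c, M.Od i c → ∀ x ∈ K M.σ (2 * 2 ^ i), c * M.e x * c⁻¹ = M.e (x + (dl M.σ)^[2 ^ i] x) := by
    intro c hc x hx
    have h1 := hc 0 x (by rw [zero_add]; exact hx)
    rw [M.Rk_zero, mem_bot] at h1
    have h2 : ⁅M.e x, c⁆ = M.e ((dl M.σ)^[2 ^ i] x) := by
      rw [mul_eq_one_iff_eq_inv] at h1
      rw [h1, ← M.e_neg, CharTwo.neg_eq]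
    have h3 : c * (M.e x)⁻¹ * c⁻¹ = (M.e x)⁻¹ * M.e ((dl M.σ)^[2 ^ i] x) := by
      rw [← h2]; simp only [commutatorElement_def]; group
    have h4 : c * M.e x * c⁻¹ = M.e (-((-x) + (dl M.σ)^[2 ^ i] x)) := by
      rw [M.e_neg, M.e_add, M.e_neg, ← h3]; group
    rw [h4, neg_add, neg_neg, CharTwo.neg_eq]
  refine ⟨hm, mem_centralizer_iff.2 ?_⟩
  rintro _ ⟨x, hx, rfl⟩
  have hx' : x + (dl M.σ)^[2 ^ i] x ∈ K M.σ (2 * 2 ^ i) := by
    refine add_mem hx ?_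
    apply K_mono M.σ (s := 2 ^ i) (by omega)
    rw [two_mul] at hx
    exact (mem_K_add M.σ).1 hx
  have h1 : a * b * M.e x * (a * b)⁻¹ = M.e x := by
    have e1 : a * b * M.e x * (a * b)⁻¹ = a * (b * M.e x * b⁻¹) * a⁻¹ := by group
    rw [e1, key b hbo x hx, key a hao _ hx', it_add]
    congr 1
    have h2 : (dl M.σ)^[2 ^ i] ((dl M.σ)^[2 ^ i] x) = 0 := by
      rw [← Function.iterate_add_apply, ← two_mul]
      exact hx
    rw [h2, add_zero, add_assoc, two_self, add_zero]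
  exact (mul_inv_eq_iff_eq_mul.1 h1).symm

include hi hk hex in
/-- the LAYER LEMMA for `O` -/
theorem lay {N N1 : Subgroup G} {x : F} (hN1 : N1 ≤ M.W) (hXN1 : X ≤ normalizer (N1 : Set G))
    (hON : ∀ w ∈ N, ∀ o ∈ M.O, ⁅w, o⁆ ∈ N1) (hev : ∀ o, M.Ev i o → ⁅M.e x, o⁆ ∈ N1)
    (hod : ∀ o, M.Od i o → ⁅M.e x, o⁆ ∉ N1) :
    ¬ ∀ e ∈ M.E, (M.e x)⁻¹ * (e * M.e x * e⁻¹) ∈ N := by
  intro hE
  obtain ⟨o0, ho0, hod0⟩ := hex
  refine layer (O := M.O) (E := M.E) (W := M.W) (N := N) (N1 := N1) (O1 := M.O1 i) (r := M.e x) M.O_eq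
    ((oddGen_le X).trans M.X_O) M.comm hN1 (M.R_le_W (M.e_mem x)) ((oddGen_le X).trans hXN1) hON
    (fun a ha b hb ha' hb' => M.mul_mem_O1 hk ha hb ha' hb') ⟨o0, ho0, hod0.not_mem M hi⟩
    (fun o ho => ?_) hE
  rcases hk o ho with h1 | h1
  · exact ⟨fun _ => h1.mem M ho, fun _ => hev o h1⟩
  · exact ⟨fun h2 => absurd h2 (hod o h1), fun h2 => absurd h2 (h1.not_mem M hi)⟩

include hi hk hex in
/-- form 1: `r` is not centralised by `E` -/
theorem not_cent {x : F} (hev : ∀ o, M.Ev i o → ⁅M.e x, o⁆ = 1) (hod : ∀ o, M.Od i o → ⁅M.e x, o⁆ ≠ 1) :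
    M.e x ∉ centralizer (M.E : Set G) := by
  intro hc
  refine M.lay hi hk hex (N := ⊥) (N1 := ⊥) (x := x) bot_le (le_normalizer_bot X) ?_ ?_ ?_ ?_
  · intro w hw o _
    rw [mem_bot.1 hw, commutatorElement_one_left]
    exact one_mem _
  · exact fun o h => mem_bot.2 (hev o h)
  · exact fun o h h' => hod o h (mem_bot.1 h')
  · intro e he
    have := mem_centralizer_iff.1 hc e he
    rw [mem_bot, this, mul_inv_cancel_right, inv_mul_cancel]

include hi hk hex in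
/-- form 2: `[Y, E] ≰ N` if `r ∈ Y` -/
theorem not_comm {Y N N1 : Subgroup G} {x : F} (hxY : M.e x ∈ Y) (hN1 : N1 ≤ M.W)
    (hXN1 : X ≤ normalizer (N1 : Set G)) (hON : ∀ w ∈ N, ∀ o ∈ M.O, ⁅w, o⁆ ∈ N1) (hev : ∀ o, M.Ev i o → ⁅M.e x, o⁆ ∈ N1)
    (hod : ∀ o, M.Od i o → ⁅M.e x, o⁆ ∉ N1) : ¬ ⁅Y, M.E⁆ ≤ N := by
  intro h
  refine M.lay hi hk hex hN1 hXN1 hON hev hod fun e he => ?_
  have h1 : ⁅(M.e x)⁻¹, e⁆ ∈ N := h (commutator_mem_commutator (inv_mem hxY) he)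
  have e1 : ⁅(M.e x)⁻¹, e⁆ = (M.e x)⁻¹ * (e * M.e x * e⁻¹) := by
    simp only [commutatorElement_def]; group
  rwa [e1] at h1

omit [Finite G] [Finite F] in
theorem mem_zp {x : F} {g : G} : g ∈ zpowers (M.e x) ↔ g = 1 ∨ g = M.e x := by
  have hsq : M.e x * M.e x = 1 := by rw [← M.e_add, two_self, M.e_zero]
  constructor
  · rintro ⟨k, rfl⟩
    rcases Int.even_or_odd' k with ⟨j, rfl | rfl⟩
    · left
      show M.e x ^ (2 * j) = 1
      rw [zpow_mul, zpow_two, hsq, one_zpow]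
    · right
      show M.e x ^ (2 * j + 1) = M.e x
      rw [zpow_add, zpow_mul, zpow_two, hsq, one_zpow, one_mul, zpow_one]
  · rintro (rfl | rfl)
    · exact one_mem _
    · exact mem_zpowers _

omit [Finite G] [Finite F] in
theorem Ev.zero {o : G} (h : M.Ev i o) {x : F} (hx : x ∈ K M.σ (2 * 2 ^ i)) : ⁅M.e x, o⁆ = 1 := by
  have h1 := h 0 x (by rw [zero_add]; exact hx)
  rwa [M.Rk_zero, mem_bot] at h1

omit [Finite G] [Finite F] in
theorem Od.zero {o : G} (h : M.Od i o) {x : F} (hx : x ∈ K M.σ (2 * 2 ^ i)) :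
    ⁅M.e x, o⁆ = M.e ((dl M.σ)^[2 ^ i] x) := by
  have h1 := h 0 x (by rw [zero_add]; exact hx)
  rw [M.Rk_zero, mem_bot] at h1
  rw [mul_eq_one_iff_eq_inv] at h1
  rw [h1, ← M.e_neg, CharTwo.neg_eq]

include hi hk hex in
/-- **Two noncentral sections**, if `|R^(t)| ≥ 4`. -/
theorem two_sections (h4 : 3 ≤ Nat.card (K M.σ (2 ^ i))) : ∃ N : Subgroup G, N ≤ M.W ∧
    X ≤ normalizer (N : Set G) ∧ ¬ N ≤ centralizer (M.E : Set G) ∧ ¬ ⁅M.W, M.E⁆ ≤ N := by
  have hl : Lay M.σ M.ε := ⟨M.per, M.card⟩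
  have h1K : (1 : F) ∈ K M.σ (2 ^ i) := by
    apply K_mono M.σ (Nat.one_le_two_pow (n := i))
    rw [mem_K_one]; exact map_one _
  have h1K' : (1 : F) ∈ K M.σ 1 := by rw [mem_K_one]; exact map_one _
  -- a third element
  obtain ⟨y, hy, hy0, hy1⟩ : ∃ y ∈ K M.σ (2 ^ i), y ≠ 0 ∧ y ≠ 1 := by
    by_contra hcon
    push Not at hcon
    have h5 : Nat.card (K M.σ (2 ^ i)) ≤ 2 := by
      classical
      let f : K M.σ (2 ^ i) → Fin 2 := fun z => if z = 0 then 0 else 1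
      have hz : ∀ z : K M.σ (2 ^ i), z ≠ 0 → (z : F) = 1 := fun z hz =>
        hcon z z.2 fun h => hz (Subtype.ext h)
      have hf : Function.Injective f := by
        intro a b hab
        by_cases ha : a = 0
        · by_cases hb : b = 0
          · rw [ha, hb]
          · simp [f, ha, hb] at hab
        · by_cases hb : b = 0
          · simp [f, ha, hb] at hab
          · exact Subtype.ext (by rw [hz a ha, hz b hb])
      have := Nat.card_le_card_of_injective f hf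
      simpa using this
    omega
  obtain ⟨x1, hx1, hx1'⟩ := hl.exists_dl (t := 2 ^ i) (s := 2 ^ i) (by omega) h1K
  obtain ⟨x2, hx2, hx2'⟩ := hl.exists_dl (t := 2 ^ i) (s := 2 ^ i) (by omega) hy
  rw [← two_mul] at hx1 hx2
  set N1 : Subgroup G := zpowers (M.e 1) with hN1
  have hN1W : N1 ≤ M.W := by
    rw [hN1, zpowers_le]
    exact M.R_le_W (M.e_mem 1)
  have hXN1 : X ≤ normalizer (N1 : Set G) := by
    have h2 : N1 ≤ centralizer (X : Set G) := by
      rw [hN1, zpowers_le]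
      exact M.cent 1 h1K'
    exact (le_centralizer_iff.1 h2).trans (centralizer_le_normalizer _)
  set N := pre M.W M.O N1 M.comm hN1W with hN
  have hXN : X ≤ normalizer (N : Set G) := normalizer_pre M.X_W M.X_O hXN1
  refine ⟨N, pre_le, hXN, fun h => ?_, ?_⟩
  · -- `e x1 ∈ N`
    have h2 : M.e x1 ∈ N := by
      refine ⟨M.R_le_W (M.e_mem _), fun o ho => ?_⟩
      rcases hk o ho with h3 | h3
      · rw [h3.zero M hx1]; exact one_mem _
      · rw [h3.zero M hx1, hx1']; exact mem_zpowers _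
    refine M.not_cent hi hk hex (x := x1) (fun o ho => ho.zero M hx1) (fun o ho => ?_) (h h2)
    rw [ho.zero M hx1, hx1', Ne, M.e_eq_one]
    exact one_ne_zero
  · refine M.not_comm hi hk hex (x := x2) (M.R_le_W (M.e_mem x2)) hN1W hXN1 pre_comm
      (fun o ho => ?_) (fun o ho => ?_)
    · rw [ho.zero M hx2]; exact one_mem _
    · rw [ho.zero M hx2, hx2', M.mem_zp]
      rintro (h3 | h3)
      · exact hy0 (M.e_eq_one.1 h3)
      · exact hy1 (M.e_inj h3)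

/-- **Three noncentral sections**, if `t = 1`, `m ≥ 4`. -/
theorem three_sections (hm : 4 ≤ 2 ^ M.ε) (hk : ∀ o ∈ M.O, M.Ev 0 o ∨ M.Od 0 o) (hex : ∃ o ∈ M.O, M.Od 0 o) :
    ∃ N N' : Subgroup G, N ≤ N' ∧ N' ≤ M.W ∧ X ≤ normalizer (N : Set G) ∧ X ≤ normalizer (N' : Set G) ∧
      ¬ N ≤ centralizer (M.E : Set G) ∧ ¬ ⁅N', M.E⁆ ≤ N ∧ ¬ ⁅M.W, M.E⁆ ≤ N' := by
  have hl : Lay M.σ M.ε := ⟨M.per, M.card⟩
  have hi : 2 * 2 ^ 0 ≤ 2 ^ M.ε := by omega
  have h1K : (1 : F) ∈ K M.σ 1 := by rw [mem_K_one]; exact map_one _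
  obtain ⟨x2, hx2, hx2'⟩ := hl.exists_dl (t := 1) (s := 1) (by omega) h1K
  obtain ⟨x3, hx3, hx3'⟩ := hl.exists_dl (t := 1) (s := 2) (by omega) hx2
  obtain ⟨x4, hx4, hx4'⟩ := hl.exists_dl (t := 1) (s := 3) (by omega) hx3
  set M1 := pre M.W M.O ⊥ M.comm bot_le with hM1
  set M2 := pre M.W M.O M1 M.comm pre_le with hM2
  set M3 := pre M.W M.O M2 M.comm pre_le with hM3
  have hX1 : X ≤ normalizer (M1 : Set G) := normalizer_pre M.X_W M.X_O (le_normalizer_bot X)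
  have hX2 : X ≤ normalizer (M2 : Set G) := normalizer_pre M.X_W M.X_O hX1
  have hX3 : X ≤ normalizer (M3 : Set G) := normalizer_pre M.X_W M.X_O hX2
  have h12 : M1 ≤ M2 := pre_mono bot_le
  have h23 : M2 ≤ M3 := pre_mono h12
  have hR1 : M.Rk 1 ≤ M1 := by
    rintro _ ⟨x, hx, rfl⟩
    refine ⟨M.R_le_W (M.e_mem x), fun o ho => ?_⟩
    rw [mem_bot, commutatorElement_eq_one_iff_mul_comm]
    exact (mem_centralizer_iff.1 (M.cent x hx) o (M.syl.1 (M.O_le_S ho))).symm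
  have hR2 : M.Rk 2 ≤ M2 := by
    rintro _ ⟨x, hx, rfl⟩
    exact ⟨M.R_le_W (M.e_mem x), fun o ho => hR1 (M.Rk_comm 1 hx (M.O_le_S ho))⟩
  have hR3 : M.Rk 3 ≤ M3 := by
    rintro _ ⟨x, hx, rfl⟩
    exact ⟨M.R_le_W (M.e_mem x), fun o ho => hR2 (M.Rk_comm 2 hx (M.O_le_S ho))⟩
  obtain ⟨o0, ho0, hod0⟩ := id hex
  have hr2 : M.e x2 ∉ M1 := by
    intro h
    have h1 := h.2 o0 ho0
    rw [mem_bot, hod0.zero M hx2] at h1
    rw [pow_zero, hx2', M.e_eq_one] at h1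
    exact one_ne_zero h1
  have hr3 : M.e x3 ∉ M2 := by
    intro h
    have h1 := h.2 o0 ho0
    have h2 := hR1 (hod0 1 x3 hx3)
    rw [pow_zero, hx3'] at h2
    exact hr2 ((M1.mul_mem_cancel_left h1).1 h2)
  refine ⟨M2, M3, h23, pre_le, hX2, hX3, fun h => ?_, ?_, ?_⟩
  · refine M.not_cent hi hk hex (x := x2) (fun o ho => ho.zero M hx2) (fun o ho => ?_)
      (h (hR2 (M.mem_Rk.2 hx2)))
    rw [ho.zero M hx2, pow_zero, hx2', Ne, M.e_eq_one]
    exact one_ne_zero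
  · refine M.not_comm hi hk hex (x := x3) (hR3 (M.mem_Rk.2 hx3)) pre_le hX1 pre_comm
      (fun o ho => ?_) (fun o ho h1 => ?_)
    · exact hR1 (ho 1 x3 hx3)
    · have h2 := hR1 (ho 1 x3 hx3)
      rw [pow_zero, hx3'] at h2
      exact hr2 ((M1.mul_mem_cancel_left h1).1 h2)
  · refine M.not_comm hi hk hex (x := x4) (M.R_le_W (M.e_mem x4)) pre_le hX2 pre_comm
      (fun o ho => ?_) (fun o ho h1 => ?_)
    · exact hR2 (ho 2 x4 hx4)
    · have h2 := hR2 (ho 2 x4 hx4)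
      rw [pow_zero, hx4'] at h2
      exact hr3 ((M2.mul_mem_cancel_left h1).1 h2)

end secs

end two

end fin

end Md

end Cfsg.Agent.Omega.NO3S.Fld.Red

end

section


/-!
# Fld, THEOREM RED (#15355): the end of (1)-(3)

* `NoOv.step` : one noncentral section;
* `end_of` : the contradiction from `Md` and `Cnt`, `|F| ≥ 16`;
* `Crd.exists_sigma` : `S` acts on `R` through the powers of one `σ` of order `2^ε`;
* `Crd.norm_R` : a minimal parabolic `X ≤ C_G(Z)` over `S` with `J(S) ≰ O₂(X)`, `Ω₁(Z(O₂(X)))` centralised by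
  `O²(X)`, normalises `R`, if `|F| ≥ 16`.
-/

set_option autoImplicit false
set_option linter.unusedSectionVars false

namespace Cfsg.Agent.Omega.NO3S.Fld.Red

open Subgroup Cfsg Cfsg.Agent.ZN Cfsg.Agent.ZN.ChoiceBase Cfsg.Agent.ZN.ChoiceSit
open Cfsg.Agent.MinSimple.MinParabolic (IsMinPar)
open Cfsg.Agent.MinSimple.VModule (oddGen oddGen_le mem_oddGen le_normalizer_oddGen oddGen_le_of_sup)
open Cfsg.Agent.Omega.NO3b.EZero (cl cj_le_cl le_cl cl_le cj_cl le_normalizer_cl le_normalizer_inf_cent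
  oddGen_sup_syl)
open Cfsg.Agent.Omega.NO3b.K0 (min_or NoOv oddGen_oddGen)
open Cfsg.Agent.Omega.NO3S.NotFF (conj_mem le_normalizer_bot)
open scoped commutatorElement

universe u

variable {G : Type u} [Group G] [Finite G]

/-- one noncentral section: `|A : A ∩ Q| |N : C_N(A)| ≤ |Y : C_Y(A)|` -/
theorem noOv_step {X : Subgroup G} (hX : NoOv X) {N Y A : Subgroup G} (hNY : N ≤ Y) (hYX : Y ≤ X)
    (hsq : ∀ y ∈ Y, y ^ 2 = 1) (hY : Y ≤ centralizer (Y : Set G)) (hN : X ≤ normalizer (N : Set G))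
    (hYn : X ≤ normalizer (Y : Set G)) (hE : ¬ ⁅Y, oddGen X⁆ ≤ N) (hA : A ≤ X)
    (hA2 : ∀ a ∈ A, a ^ 2 ∈ o2 X) (hAc : ∀ a ∈ A, ∀ b ∈ A, a * b * a⁻¹ * b⁻¹ ∈ o2 X) :
    (o2 X).relIndex A * (centralizer (A : Set G)).relIndex N ≤ (centralizer (A : Set G)).relIndex Y := by
  set W := centralizer (A : Set G) ⊓ Y with hW
  have hWY : W ≤ Y := inf_le_right
  -- `[N W, A] ≤ N`
  have hNW : ⁅N ⊔ W, A⁆ ≤ N := by
    rw [commutator_le]
    intro x hx a ha
    have h1 : N ≤ normalizer (W : Set G) :=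
      (hNY.trans (hY.trans (centralizer_le hWY))).trans (centralizer_le_normalizer _)
    obtain ⟨n, hn, w, hw, rfl⟩ := NO3b.CTwo.mem_sup_of_le_norm h1 hx
    have h2 := mem_centralizer_iff.1 hw.1 a ha
    have e1 : ⁅n * w, a⁆ = n * (w * a * w⁻¹ * n⁻¹ * a⁻¹) := by
      simp only [commutatorElement_def]; group
    have e2 : w * a * w⁻¹ = a := by rw [← h2, mul_inv_cancel_right]
    rw [e1, e2]
    exact N.mul_mem hn (conj_mem (hA.trans hN) ha (N.inv_mem hn))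
  have h1 := hX.gen hNY hYX hsq hY hN hYn hE hA hA2 hAc (sup_le hNY hWY) hNW
  have h3 : W.relIndex N ≤ W.relIndex (N ⊔ W) :=
    relIndex_le_of_le_right le_sup_left index_ne_zero_of_finite
  have h4 := relIndex_mul_relIndex W (N ⊔ W) Y le_sup_right (sup_le hNY hWY)
  have h5 : W.relIndex Y = (centralizer (A : Set G)).relIndex Y := inf_relIndex_right _ _
  have h6 : W.relIndex N = (centralizer (A : Set G)).relIndex N := by
    rw [← inf_relIndex_right W, ← inf_relIndex_right (centralizer (A : Set G))]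
    congr 1
    apply le_antisymm
    · exact le_inf (inf_le_left.trans inf_le_left) inf_le_right
    · exact le_inf (le_inf inf_le_left (inf_le_right.trans hNY)) inf_le_right
  rw [← h5, ← h4, ← h6, mul_comm]
  exact Nat.mul_le_mul h3 h1

section theend

variable {F : Type*} [Field F] [Finite F] [CharP F 2] {S X V R Rs : Subgroup G} {q r : ℕ}

/-- **THEOREM RED, (1)-(3).** -/
theorem end_of (hX : NoOv X) (h : Cnt S X V R Rs q r) (M : Md F S X R) (hF : Nat.card F = q)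
    (hRs : ∀ x, M.σ^[2 ^ (M.ε - 1)] x = x → M.e x ∈ Rs) (hRs' : ∀ g ∈ Rs, ∃ x, M.σ^[2 ^ (M.ε - 1)] x = x ∧ M.e x = g)
    {A : Subgroup G} (hAe : Elem (cl V X) A) (hAS : A ≤ S)
    (hmax : ∀ W : Subgroup G, W ≤ cl V X →
      (centralizer (A : Set G)).relIndex W ≤ (centralizer (W : Set G)).relIndex A) (hAQ : ¬ A ≤ o2 X) : False := by
  have hl : Lay M.σ M.ε := ⟨M.per, M.card⟩
  obtain ⟨α, β, γ, ξ, a, hn⟩ := h.exists_nums' hAe hAS hmax hAQ
  obtain ⟨i, hi, hc, hnc, hk, hex⟩ := M.exists_i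
  have hAX : A ≤ X := hn.le.trans h.syl.1
  have hA2 : ∀ a ∈ A, a ^ 2 ∈ o2 X := fun a ha =>
    h.cent_le hAS ⟨pow_mem ha 2, centralizer_le h.XU (hn.elem.sq a ha)⟩
  have hAc : ∀ a ∈ A, ∀ b ∈ A, a * b * a⁻¹ * b⁻¹ ∈ o2 X := fun a ha b hb =>
    h.cent_le hAS ⟨A.mul_mem (A.mul_mem (A.mul_mem ha hb) (A.inv_mem ha)) (A.inv_mem hb),
      centralizer_le h.XU (hn.elem.comm a ha b hb)⟩
  have hWX : M.W ≤ X := M.W_le_X
  -- the sections
  have one : ∀ N : Subgroup G, N ≤ M.W → X ≤ normalizer (N : Set G) → ¬ N ≤ centralizer (M.E : Set G) →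
      α ≤ (centralizer (A : Set G)).relIndex N := by
    intro N hNW hXN hNE
    have h1 := noOv_step hX (N := ⊥) (Y := N) (A := A) bot_le (hNW.trans hWX) (fun y hy => M.sq y (hNW hy))
      (hNW.trans (M.comm.trans (centralizer_le hNW))) (le_normalizer_bot X) hXN
      (fun h0 => hNE (commutator_eq_bot_iff_le_centralizer.1 (le_bot_iff.1 h0))) hAX hA2 hAc
    rw [relIndex_bot_right, mul_one, ← hn.hα] at h1
    exact h1
  have stp : ∀ N Y : Subgroup G, N ≤ Y → Y ≤ M.W → X ≤ normalizer (N : Set G) → X ≤ normalizer (Y : Set G) →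
      ¬ ⁅Y, M.E⁆ ≤ N → α * (centralizer (A : Set G)).relIndex N ≤ (centralizer (A : Set G)).relIndex Y := by
    intro N Y hNY hYW hXN hXY hYE
    have h1 := noOv_step hX (N := N) (Y := Y) (A := A) hNY (hYW.trans hWX) (fun y hy => M.sq y (hYW hy))
      (hYW.trans (M.comm.trans (centralizer_le hYW))) hXN hXY hYE hAX hA2 hAc
    rwa [← hn.hα] at h1
  have hq0 := two_le_card_K_one M.σ
  -- `|F| = q = r²`
  have hε : 2 ^ M.ε = 2 ^ (M.ε - 1) * 2 := by
    rw [← pow_succ]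
    congr 1
    rcases Nat.eq_zero_or_pos M.ε with h0 | h0
    · rw [h0] at hi
      have : 0 < 2 ^ i := by positivity
      omega
    · omega
  have hr : r = Nat.card (K M.σ 1) ^ 2 ^ (M.ε - 1) := by
    have h1 : r * r = (Nat.card (K M.σ 1) ^ 2 ^ (M.ε - 1)) * (Nat.card (K M.σ 1) ^ 2 ^ (M.ε - 1)) := by
      rw [← h.qr, ← hF, M.card, hε, pow_mul, pow_two]
    exact Nat.mul_self_inj.1 h1
  have hr4 := h.r4
  by_cases h4 : 3 ≤ Nat.card (K M.σ (2 ^ i))
  · -- two sections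
    obtain ⟨N, hNW, hXN, hNE, hWE⟩ := M.two_sections hi hk hex h4
    have h5 : α ^ 2 ≤ ξ := by
      rw [hn.hξ, pow_two]
      exact (Nat.mul_le_mul_left _ (one N hNW hXN hNE)).trans (stp N _ hNW le_rfl hXN M.X_W hWE)
    by_cases h8 : 8 ≤ r
    · exact h.end2 hn h8 h5
    · -- `r = 4`, `t = m / 2`
      have hcK : Nat.card (K M.σ (2 ^ i)) = Nat.card (K M.σ 1) ^ 2 ^ i := hl.card_K (by omega)
      have hiε : 2 ^ i ≤ 2 ^ (M.ε - 1) := by omega
      have hi1 : i ≤ M.ε - 1 := (Nat.pow_le_pow_iff_right (by norm_num)).1 hiε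
      have h6 : i = M.ε - 1 := by
        by_contra hne
        have h7 : i + 1 ≤ M.ε - 1 := by omega
        have h8' : Nat.card (K M.σ 1) ^ 2 ^ (i + 1) ≤ r := by
          rw [hr]
          exact Nat.pow_le_pow_right (by omega) (Nat.pow_le_pow_right (by norm_num) h7)
        rw [pow_succ, pow_mul, ← hcK] at h8'
        have h9 : 3 ^ 2 ≤ Nat.card (K M.σ (2 ^ i)) ^ 2 := Nat.pow_le_pow_left h4 2
        omega
      have h7 : Rs = M.Rk (2 ^ i) := by
        ext g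
        constructor
        · intro hg
          obtain ⟨x, hx, rfl⟩ := hRs' g hg
          rw [M.mem_Rk, mem_K_two_pow, h6]
          exact hx
        · rintro ⟨x, hx, rfl⟩
          apply hRs
          rw [mem_K_two_pow, h6] at hx
          exact hx
      refine h.end4 hn ?_ h5
      rw [h7]
      exact M.X_Rk hc
  · -- three sections
    have hcK : Nat.card (K M.σ (2 ^ i)) = Nat.card (K M.σ 1) ^ 2 ^ i := hl.card_K (by omega)
    have h5 : Nat.card (K M.σ 1) = 2 ∧ i = 0 := by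
      rcases Nat.eq_zero_or_pos i with h0 | h0
      · rw [h0, pow_zero] at h4
        exact ⟨by omega, h0⟩
      · exfalso
        have h6 : 2 ≤ 2 ^ i := by
          calc 2 = 2 ^ 1 := (pow_one 2).symm
            _ ≤ 2 ^ i := Nat.pow_le_pow_right (by norm_num) h0
        have h7 : Nat.card (K M.σ 1) ^ 2 ≤ Nat.card (K M.σ 1) ^ 2 ^ i := Nat.pow_le_pow_right (by omega) h6
        have h8 : 2 ^ 2 ≤ Nat.card (K M.σ 1) ^ 2 := Nat.pow_le_pow_left hq0 2
        omega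
    obtain ⟨h5, rfl⟩ := h5
    have hm : 4 ≤ 2 ^ M.ε := by
      rw [h5] at hr
      have h6 : 2 ^ 2 ≤ 2 ^ 2 ^ (M.ε - 1) := by rw [← hr]; exact hr4
      have h7 := (Nat.pow_le_pow_iff_right (by norm_num)).1 h6
      omega
    obtain ⟨N, N', hNN, hNW, hXN, hXN', hNE, hNE', hWE⟩ := M.three_sections hm hk hex
    have h6 : α ^ 3 ≤ ξ := by
      rw [hn.hξ]
      calc α ^ 3 = α * (α * α) := by ring
        _ ≤ α * (α * (centralizer (A : Set G)).relIndex N) :=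
            Nat.mul_le_mul_left _ (Nat.mul_le_mul_left _ (one N (hNN.trans hNW) hXN hNE))
        _ ≤ α * (centralizer (A : Set G)).relIndex N' :=
            Nat.mul_le_mul_left _ (stp N N' hNN hNW hXN hXN' hNE')
        _ ≤ _ := stp N' _ hNW le_rfl hXN' M.X_W hWE
    exact h.end3 hn h6

end theend

end Cfsg.Agent.Omega.NO3S.Fld.Red

namespace Cfsg.Agent.Omega.NO3S.Fld.Crd

open Subgroup Cfsg Cfsg.Agent.ZN Cfsg.Agent.ZN.ChoiceBase Cfsg.Agent.ZN.ChoiceSit Cfsg.Agent.Omega.MinPar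
open Cfsg.Agent.Omega.Frame Cfsg.Agent.Omega.FrameNOFF
open Cfsg.Agent.MinSimple.MinParabolic (IsMinPar)
open Cfsg.Agent.MinSimple.VModule (oddGen zl_le zc_le_zl)
open Cfsg.Agent.Omega.NO3b.EZero (cl cj_le_cl le_cl cl_le)
open Cfsg.Agent.Omega.NO3b.K0 (NoOv)
open Cfsg.Agent.Omega.NatPair (ext2)
open Cfsg.Agent.Omega.NO3S.Fld.Red

universe u

variable {G : Type u} [Group G]

section sigma

variable {F : Type*} [Field F] [Finite F] [CharP F 2] {S P V : Subgroup G} (M : Crd F S P V)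

/-- `S` acts on `R` through the powers of one field automorphism of order `2^ε`. -/
theorem exists_sigma (hS : IsPGroup 2 S) : ∃ (σ : F ≃+* F) (ε : ℕ), orderOf σ = 2 ^ ε ∧
    (∃ s₀ ∈ S, ∀ x, s₀ * M.e ![x, 0] * s₀⁻¹ = M.e ![σ x, 0]) ∧
    ∀ s ∈ S, ∃ k : ℕ, ∀ x, s * M.e ![x, 0] * s⁻¹ = M.e ![σ^[k] x, 0] := by
  have hfin : Finite (F ≃+* F) := Finite.of_injective (fun f : F ≃+* F => (f : F → F)) DFunLike.coe_injective
  obtain ⟨s₀, hs₀, hcyc⟩ := M.cyc
  have hact : ∀ s (hs : s ∈ S) x, s * M.e ![x, 0] * s⁻¹ = M.e ![(M.sgHom ⟨s, hs⟩) x, 0] := by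
    intro s hs x
    obtain ⟨σ, c, h⟩ := M.exists_act hs
    rw [M.sgHom_eq (s := ⟨s, hs⟩) h, h]
    congr 1
    apply ext2 <;> simp
  set σ := M.sgHom ⟨s₀, hs₀⟩ with hσ
  obtain ⟨n, hn⟩ := hS ⟨s₀, hs₀⟩
  have h1 : σ ^ 2 ^ n = 1 := by rw [hσ, ← map_pow, hn, map_one]
  obtain ⟨ε, -, hε⟩ := (Nat.dvd_prime_pow Nat.prime_two).1 (orderOf_dvd_of_pow_eq_one h1)
  refine ⟨σ, ε, hε, ⟨s₀, hs₀, hact s₀ hs₀⟩, fun s hs => ?_⟩
  obtain ⟨k, hk⟩ := hcyc s hs
  refine ⟨k, fun x => ?_⟩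
  rw [hact s hs, ← Red.coe_pow_eq]
  have h2 : M.sgHom ⟨s, hs⟩ = σ ^ k := by
    have h3 : M.sgHom (⟨s, hs⟩ * (⟨s₀, hs₀⟩ ^ k)⁻¹) = 1 := M.sgHom_eq_one.2 (mem_inf.1 hk).2
    rw [map_mul, map_inv, map_pow, mul_inv_eq_one] at h3
    exact h3
  rw [h2]

end sigma

section red

variable [Finite G] {S : Sylow 2 G} {P X : Subgroup G} {F : Type*} [Field F] [Finite F] [CharP F 2]

/-- `⟨V^X⟩ ≤ S` -/
theorem cl_le_S (h : Hyp S P) (hSX : (S : Subgroup G) ≤ X) (hXZ : X ≤ CZ (S : Subgroup G)) :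
    cl (zl (S : Subgroup G) P) X ≤ (S : Subgroup G) := by
  have hsyl : Syl (S : Subgroup G) X := ⟨hSX, S.isPGroup', fun _ _ hT hST => S.is_maximal' hT hST⟩
  have hUW : cl (zl (S : Subgroup G) P) X ≤ WW (S : Subgroup G) P := cl_le fun x hx => conj_zl_le_WW (hXZ hx)
  have hUX : cl (zl (S : Subgroup G) P) X ≤ X := cl_le fun x hx => by
    have h1 := cj_mono x (h.V_le_S.trans hSX)
    rwa [cj_eq_of_mem_normalizer (Subgroup.le_normalizer hx)] at h1
  have hUp : IsPGroup 2 (cl (zl (S : Subgroup G) P) X) := fun x =>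
    ⟨1, Subtype.ext (by simpa using h.W_sq x (hUW x.2))⟩
  exact (ChoiceSit.le_o2 hUp hUX (NO3b.EZero.le_normalizer_cl (zl (S : Subgroup G) P) X)).trans (o2_le_syl hsyl)

/-- **THEOREM RED, (1)-(3)**: `|F| ≥ 16`, for any `A ≤ S`, `A ≰ O₂(X)`, which is an offender on the subgroups of
`⟨V^X⟩`; weak form of the FF-LEMMA. -/
theorem norm_R'' (h : Hyp S P) (M : Crd F (S : Subgroup G) P (zl (S : Subgroup G) P)) (h16 : 16 ≤ Nat.card F)
    (hX : NoOv X) (hmp : IsMinPar (S : Subgroup G) X) (hXZ : X ≤ CZ (S : Subgroup G))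
    (hff : cl M.R X ⊓ zc (o2 X) ≤ centralizer (oddGen X : Set G)) {A : Subgroup G} (hAS : A ≤ (S : Subgroup G))
    (hAe : Red.Elem (cl (zl (S : Subgroup G) P) X) A)
    (hmax : ∀ W : Subgroup G, W ≤ cl (zl (S : Subgroup G) P) X →
      (centralizer (A : Set G)).relIndex W ≤ (centralizer (W : Set G)).relIndex A) (hAQ : ¬ A ≤ o2 X) :
    X ≤ normalizer (M.R : Set G) := by
  by_contra hnR
  have hSX : (S : Subgroup G) ≤ X := hmp.le
  have hsyl : Syl (S : Subgroup G) X := ⟨hSX, S.isPGroup', fun _ _ hT hST => S.is_maximal' hT hST⟩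
  have hVS : zl (S : Subgroup G) P ≤ (S : Subgroup G) := h.V_le_S
  have hRV : M.R ≤ zl (S : Subgroup G) P := M.R_le
  -- `U ≤ W`
  have hUW : cl (zl (S : Subgroup G) P) X ≤ WW (S : Subgroup G) P := by
    refine cl_le fun x hx => ?_
    have h1 := conj_zl_le_WW (S := S) (P := P) (hXZ hx)
    exact h1
  have hUsq : ∀ u ∈ cl (zl (S : Subgroup G) P) X, u ^ 2 = 1 := fun u hu => h.W_sq u (hUW hu)
  have hUcomm : cl (zl (S : Subgroup G) P) X ≤ centralizer (cl (zl (S : Subgroup G) P) X : Set G) := hUW.trans (h.W_comm.trans (centralizer_le hUW))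
  have hRU : cl M.R X ≤ cl (zl (S : Subgroup G) P) X := cl_le fun _ hp => (cj_mono _ hRV).trans (cj_le_cl hp)
  -- `U ≤ S`
  have hUX : cl (zl (S : Subgroup G) P) X ≤ X := cl_le fun x hx => by
    have h1 := cj_mono x (hVS.trans hSX)
    rwa [cj_eq_of_mem_normalizer (Subgroup.le_normalizer hx)] at h1
  have hUp : IsPGroup 2 (cl (zl (S : Subgroup G) P) X) := fun x => ⟨1, Subtype.ext (by simpa using hUsq x x.2)⟩
  have hUS : cl (zl (S : Subgroup G) P) X ≤ (S : Subgroup G) :=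
    (ChoiceSit.le_o2 hUp hUX (NO3b.EZero.le_normalizer_cl (zl (S : Subgroup G) P) X)).trans (o2_le_syl hsyl)
  -- `S` moves `R` elementwise
  have hne : ¬ (S : Subgroup G) ≤ centralizer (M.R : Set G) := by
    intro h0
    apply hnR
    have h1 : M.R ≤ zc (S : Subgroup G) := by
      intro g hg
      have hgS : g ∈ (S : Subgroup G) := hVS (hRV hg)
      refine subset_closure ⟨⟨hgS, ?_⟩, hUsq g (hRU (le_cl _ _ hg))⟩
      exact le_centralizer_iff.1 h0 hg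
    have h2 : X ≤ centralizer (M.R : Set G) := hXZ.trans (centralizer_le h1)
    exact h2.trans (centralizer_le_normalizer _)
  obtain ⟨σ, ε, hord, ⟨s₀, hs₀, hs₀'⟩, hact⟩ := M.exists_sigma S.isPGroup'
  have hl : Red.Lay σ ε := Red.lay_of hord
  have hε : ε ≠ 0 := by
    rintro rfl
    apply hne
    intro s hs
    rw [mem_centralizer_iff]
    rintro _ ⟨a, rfl⟩
    obtain ⟨k, hk⟩ := hact s hs
    rw [pow_zero, orderOf_eq_one_iff] at hord
    have h1 : ∀ k x, σ^[k] x = x := by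
      intro k x
      rw [← Red.coe_pow_eq, hord, one_pow]; rfl
    have h2 := hk a
    rw [h1] at h2
    exact (mul_inv_eq_iff_eq_mul.1 h2).symm
  -- the involution
  set φ : F ≃+* F := σ ^ 2 ^ (ε - 1) with hφ
  have hφ1 : φ ≠ RingEquiv.refl F := by
    intro h0
    have h1 : σ ^ 2 ^ (ε - 1) = 1 := h0
    have h2 := orderOf_dvd_of_pow_eq_one h1
    rw [hord] at h2
    have h3 := (Nat.pow_dvd_pow_iff_le_right (by norm_num)).1 h2
    omega
  have hφ2 : ∀ x, φ (φ x) = x := by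
    intro x
    have h1 : φ * φ = 1 := by
      rw [hφ, ← pow_add, ← two_mul, ← pow_succ', Nat.sub_add_cancel (Nat.pos_of_ne_zero hε), ← hord,
        pow_orderOf_eq_one]
    exact congrArg (fun τ : F ≃+* F => τ x) h1
  have hline := M.line hφ1 hφ2
  set r := Nat.card {x : F // φ x = x} with hr
  have hq : r * r = Nat.card F := card_fixed hφ1 hφ2
  have hSR : (S : Subgroup G) ≤ normalizer (M.R : Set G) := M.S_R
  have hcnt : Red.Cnt (S : Subgroup G) X (zl (S : Subgroup G) P) M.R (M.Rs φ) (Nat.card F) r :=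
    { syl := hsyl
      mp := hmp
      line := hline
      qr := hq.symm
      r4 := by
        by_contra hlt
        have : r ≤ 3 := by omega
        nlinarith
      sq := hUsq
      comm := hUcomm
      SR := hSR
      nR := hnR }
  let N : Red.Md F (S : Subgroup G) X M.R :=
    { e := fun x => M.e ![x, 0]
      e_add := fun x y => by
        rw [← M.e_add]
        congr 1
        apply ext2 <;> simp
      e_inj := fun x y hxy => by
        have h1 := M.e_inj hxy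
        have h2 := congrFun h1 0
        simpa using h2
      mem_iff := fun g => Iff.rfl
      σ := σ
      ε := ε
      per := hl.per
      card := hl.card
      act := hact
      cent := by
        intro x hx
        have h1 : M.e ![x, 0] ∈ zc (S : Subgroup G) := by
          have hgR : M.e ![x, 0] ∈ M.R := ⟨x, rfl⟩
          have hgS : M.e ![x, 0] ∈ (S : Subgroup G) := hVS (hRV hgR)
          refine subset_closure ⟨⟨hgS, ?_⟩, hUsq _ (hRU (le_cl _ _ hgR))⟩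
          refine mem_centralizer_iff.2 fun s hs => ?_
          obtain ⟨k, hk⟩ := hact s hs
          have h2 := hk x
          have h3 : σ^[k] x = x := Function.iterate_fixed ((Red.mem_K_one σ).1 hx) k
          rw [h3] at h2
          exact mul_inv_eq_iff_eq_mul.1 h2
        exact le_centralizer_iff.1 hXZ h1
      syl := hsyl
      sq := fun u hu => hUsq u (hRU hu)
      comm := hRU.trans (hUcomm.trans (centralizer_le hRU))
      RS := hRV.trans hVS
      ff := hff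
      nR := hnR }
  refine Red.end_of hX hcnt N rfl ?_ ?_ hAe hAS hmax hAQ
  · intro x hx
    refine ⟨x, ?_, rfl⟩
    rw [hφ, Red.coe_pow_eq]
    exact hx
  · rintro g ⟨a, ha, rfl⟩
    refine ⟨a, ?_, rfl⟩
    rw [hφ, Red.coe_pow_eq] at ha
    exact ha

/-- **THEOREM RED, (1)-(3)**: `|F| ≥ 16`, for any `A ≤ S`, `A ≰ O₂(X)`, which is an offender on the subgroups of
`⟨V^X⟩`. -/
theorem norm_R' (h : Hyp S P) (M : Crd F (S : Subgroup G) P (zl (S : Subgroup G) P)) (h16 : 16 ≤ Nat.card F)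
    (hX : NoOv X) (hmp : IsMinPar (S : Subgroup G) X) (hXZ : X ≤ CZ (S : Subgroup G))
    (hff : zc (o2 X) ≤ centralizer (oddGen X : Set G)) {A : Subgroup G} (hAS : A ≤ (S : Subgroup G))
    (hAe : Red.Elem (cl (zl (S : Subgroup G) P) X) A)
    (hmax : ∀ W : Subgroup G, W ≤ cl (zl (S : Subgroup G) P) X →
      (centralizer (A : Set G)).relIndex W ≤ (centralizer (W : Set G)).relIndex A) (hAQ : ¬ A ≤ o2 X) :
    X ≤ normalizer (M.R : Set G) := norm_R'' h M h16 hX hmp hXZ (inf_le_right.trans hff) hAS hAe hmax hAQ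

/-- **THEOREM RED, (1)-(3)**: `|F| ≥ 16`. -/
theorem norm_R (h : Hyp S P) (M : Crd F (S : Subgroup G) P (zl (S : Subgroup G) P)) (h16 : 16 ≤ Nat.card F)
    (hX : NoOv X) (hmp : IsMinPar (S : Subgroup G) X) (hXZ : X ≤ CZ (S : Subgroup G))
    (hff : zc (o2 X) ≤ centralizer (oddGen X : Set G)) (hJ : ¬ jj (S : Subgroup G) ≤ o2 X) :
    X ≤ normalizer (M.R : Set G) := by
  -- a member of `A(S)`
  obtain ⟨A, hA, hAQ⟩ : ∃ A ∈ AA (S : Subgroup G), ¬ A ≤ o2 X := by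
    by_contra hcon
    push Not at hcon
    apply hJ
    rw [jj_eq]
    exact sSup_le hcon
  have hAe : Red.El A := ⟨fun a ha => hA.1.2 a ha, fun a ha b hb =>
    congrArg (fun t : A => (t : G)) (hA.1.1.is_comm.comm ⟨a, ha⟩ ⟨b, hb⟩)⟩
  refine norm_R' h M h16 hX hmp hXZ hff hA.2.1 hAe.elem (fun W hW => ?_) hAQ
  have hUW : cl (zl (S : Subgroup G) P) X ≤ WW (S : Subgroup G) P := cl_le fun x hx => conj_zl_le_WW (hXZ hx)
  have hel : IsElementaryAbelian 2 W :=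
    ⟨⟨⟨fun a b => Subtype.ext (mem_centralizer_iff.1 (h.W_comm (hUW (hW b.2))) a (hUW (hW a.2)))⟩⟩,
      fun a ha => h.W_sq a (hUW (hW ha))⟩
  by_cases hc : A ≤ centralizer (W : Set G)
  · rw [relIndex_eq_one.2 (le_centralizer_iff.1 hc), relIndex_eq_one.2 hc]
  · exact FFThm.relIndex_le_iff.1 (FFThm.off_of_AA hel (hW.trans (cl_le_S h hmp.le hXZ)) hA hc).le

end red

end Cfsg.Agent.Omega.NO3S.Fld.Crd

end

end
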