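import Cfsg.Agent.Mrg.Omega.NO3S.Fld.ZJ
import Cfsg.Agent.Mrg.Omega.NoFF.ThmJ
import Cfsg.Agent.Mrg.Omega.NO3S.Fld.LevRed
import Cfsg.Agent.Mrg.Omega.NO3S.OneLine.Abs
import Cfsg.Agent.Mrg.Omega.NO3S.ThmB.Main
import Cfsg.Agent.Mrg.Omega.NO3S.Fld.LevBR
import Cfsg.Agent.Mrg.Omega.NO3S.Fld.FourBase
import Cfsg.Agent.Mrg.Omega.NO3S.Fld.RedFourOne
import Cfsg.Agent.Mrg.Omega.NO3b.K0.FFLem
import Cfsg.Agent.Mrg.Omega.NO3S.Fld.UniqB
import Cfsg.Agent.Mrg.Omega.FF.GlobEnd
import Cfsg.Agent.Mrg.Omega.NO3S.BetaFF.UniqZ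
import Cfsg.Agent.Mrg.Omega.NO3S.Fld.UniqLev
import Cfsg.Agent.Mrg.Omega.Node.NO3SLevel
import Cfsg.Agent.Mrg.Omega.NO3S.Level.Cut

-- merged: Cfsg.Agent.Mrg.Omega.NO3S.Fld.ToPB
section

/-!
# Fld: the `(R, B)`-frame `PB S B P V R`

* `Crd.part`, `Crd.torus`, `Crd.tor`, .. : the fields about `V`;
* `pb_of` : `PB S M.B P V M.R` from `HypJ S P`, `NatP`, (TI), (NS) and `W_R` elementary abelian;
* `omB_of` : `Ω₁(Z(C_B(V))) ≤ V`.
-/

set_option autoImplicit false
set_option linter.unusedSectionVars false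
set_option linter.unusedVariables false

namespace Cfsg.Agent.Omega.NO3S.Fld

open Subgroup Cfsg Cfsg.Agent.ZN Cfsg.Agent.ZN.ChoiceBase Cfsg.Agent.Omega.MinPar
open Cfsg.Agent.Omega.Frame Cfsg.Agent.Omega.FrameNOFF
open Cfsg.Agent.Omega.NatPair (ext2 ap ap_zero' ap_one' exists_ap_e)
open Cfsg.Agent.Lib.SL2Mat
open Cfsg.Agent.Omega.NO3S.PT (PB OmB)

universe u

namespace Crd

variable {G : Type u} [Group G] {F : Type*} [Field F] {S P V : Subgroup G} (M : Crd F S P V)

/-- the torus -/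
theorem exists_dg (μ : F) (hμ : μ ≠ 0) : ∃ k ∈ P, (∀ x : Fin 2 → F, k * M.e x * k⁻¹ = M.e ![μ * x 0, μ⁻¹ * x 1]) ∧
    k ∈ normalizer (M.R : Set G) := by
  obtain ⟨k, hk, h1⟩ := M.lift (dg μ hμ)
  have h2 : ∀ x : Fin 2 → F, k * M.e x * k⁻¹ = M.e ![μ * x 0, μ⁻¹ * x 1] := fun x => by
    rw [h1]
    congr 1
    apply ext2 <;> simp [ap_zero', ap_one']
  refine ⟨k, hk, h2, ?_⟩
  rw [mem_normalizer_iff]
  intro g
  constructor
  · rintro ⟨a, rfl⟩
    exact ⟨μ * a, by rw [h2]; congr 1; apply ext2 <;> simp⟩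
  · rintro ⟨a, ha⟩
    refine ⟨μ⁻¹ * a, ?_⟩
    have h3 := h2 ![μ⁻¹ * a, 0]
    have e : (![μ * (![μ⁻¹ * a, 0] : Fin 2 → F) 0, μ⁻¹ * (![μ⁻¹ * a, 0] : Fin 2 → F) 1] : Fin 2 → F) = ![a, 0] := by
      apply ext2
      · simp [hμ]
      · simp
    rw [e, ha] at h3
    have h4 : k * M.e ![μ⁻¹ * a, 0] = k * g := mul_right_cancel h3
    exact mul_left_cancel h4

/-- every nontrivial element of `V` lies in a conjugate of `R` -/
theorem part {v : G} (hv : v ∈ V) (hv1 : v ≠ 1) : ∃ p ∈ P, v ∈ cj p M.R := by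
  obtain ⟨x, rfl⟩ := (M.mem_iff v).1 hv
  have hx : x ≠ 0 := by
    rintro rfl
    exact hv1 M.e_zero
  obtain ⟨D, hD⟩ := exists_ap_e hx
  obtain ⟨p, hp, h1⟩ := M.lift D
  refine ⟨p, hp, mem_cj.2 ?_⟩
  have h2 := h1 ![1, 0]
  rw [hD] at h2
  rw [← h2]
  have e : p⁻¹ * (p * M.e ![1, 0] * p⁻¹) * p = M.e ![1, 0] := by group
  rw [e, M.e_mem_R]
  rfl

theorem act_mem {b v : G} (hb : b ∈ M.B) (hv : v ∈ V) : b * v * b⁻¹ * v⁻¹ ∈ M.R := M.comm_R hb.1 hb.2 hv

theorem free' {b v : G} (hb : b ∈ M.B) (hv : v ∈ V) (hvR : v ∉ M.R) (hbv : b * v = v * b) :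
    ∀ v' ∈ V, b * v' = v' * b := by
  by_contra hcon
  refine hvR (M.fix hb.1 hb.2 (fun hc => hcon fun v' hv' => ?_) hv hbv)
  exact (mem_centralizer_iff.1 hc v' hv').symm

theorem full' {v z : G} (hv : v ∈ V) (hvR : v ∉ M.R) (hz : z ∈ M.R) : ∃ b ∈ M.B, b * v * b⁻¹ * v⁻¹ = z := by
  obtain ⟨x, rfl⟩ := (M.mem_iff v).1 hv
  obtain ⟨a, rfl⟩ := hz
  rw [M.e_mem_R] at hvR
  obtain ⟨s, hs, hs', h1⟩ := M.exists_full (a * (x 1)⁻¹)
  refine ⟨s, ⟨hs, hs'⟩, ?_⟩
  rw [h1, ← M.e_sub]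
  congr 1
  apply ext2
  · simp [hvR]
  · simp

/-- the torus is transitive on the nontrivial root elements modulo `C(V)` -/
theorem torus [Finite F] [CharP F 2] {s t : G} (hs : s ∈ M.B) (ht : t ∈ M.B) (hsV : s ∉ centralizer (V : Set G))
    (htV : t ∉ centralizer (V : Set G)) : ∃ k ∈ P, k ∈ normalizer (M.R : Set G) ∧
      k * s * k⁻¹ * t⁻¹ ∈ centralizer (V : Set G) := by
  obtain ⟨c, hc⟩ := M.exists_root hs.1 hs.2
  obtain ⟨d, hd⟩ := M.exists_root ht.1 ht.2
  have hc0 : c ≠ 0 := fun e => hsV (hc.mem_centV.2 ⟨rfl, e⟩)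
  have hd0 : d ≠ 0 := fun e => htV (hd.mem_centV.2 ⟨rfl, e⟩)
  obtain ⟨μ, hμ⟩ := (frobeniusEquiv F 2).surjective (d / c)
  rw [frobeniusEquiv_apply, frobenius_def] at hμ
  have hμ0 : μ ≠ 0 := by
    rintro rfl
    rw [zero_pow two_ne_zero] at hμ
    exact div_ne_zero hd0 hc0 hμ.symm
  obtain ⟨k, hk, hkx, hkR⟩ := M.exists_dg μ hμ0
  obtain ⟨k', -, hkx', -⟩ := M.exists_dg μ⁻¹ (inv_ne_zero hμ0)
  -- `k⁻¹` acts as `diag (μ⁻¹, μ)`
  have hki : ∀ x : Fin 2 → F, k⁻¹ * M.e x * k = M.e ![μ⁻¹ * x 0, μ * x 1] := by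
    intro x
    have h1 := hkx ![μ⁻¹ * x 0, μ * x 1]
    have e : (![μ * (![μ⁻¹ * x 0, μ * x 1] : Fin 2 → F) 0, μ⁻¹ * (![μ⁻¹ * x 0, μ * x 1] : Fin 2 → F) 1] :
        Fin 2 → F) = x := by
      apply ext2 <;> simp [hμ0]
    rw [e] at h1
    rw [← h1]; group
  refine ⟨k, hk, hkR, ?_⟩
  have h1 : M.Act (k * s * k⁻¹) (RingEquiv.refl F) d := by
    intro x
    have e1 : k * s * k⁻¹ * M.e x * (k * s * k⁻¹)⁻¹ = k * (s * (k⁻¹ * M.e x * k) * s⁻¹) * k⁻¹ := by group
    rw [e1, hki, hc, hkx]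
    congr 1
    apply ext2
    · have h2 : μ ^ 2 * c = d := by
        rw [hμ]; field_simp
      simp only [RingEquiv.refl_apply, Matrix.cons_val_zero, Matrix.cons_val_one]
      rw [← h2]
      field_simp
    · simp [hμ0]
  have h2 := h1.mul hd.inv
  have h3 : RingEquiv.trans (RingEquiv.refl F).symm (RingEquiv.refl F) = RingEquiv.refl F := rfl
  rw [h3] at h2
  refine h2.mem_centV.2 ⟨rfl, ?_⟩
  simp

/-- every element of `R` is conjugate in `N_P(R)` to an element centralised by `S` -/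
theorem tor {z : G} (hz : z ∈ M.R) (hz1 : z ≠ 1) : ∃ k ∈ P, k ∈ normalizer (M.R : Set G) ∧
    ∀ s ∈ S, s * (k * z * k⁻¹) = k * z * k⁻¹ * s := by
  obtain ⟨a, rfl⟩ := hz
  have ha : a ≠ 0 := by
    rintro rfl
    apply hz1
    rw [← M.e_zero]
    congr 1
    apply ext2 <;> simp
  obtain ⟨k, hk, hkx, hkR⟩ := M.exists_dg a⁻¹ (inv_ne_zero ha)
  refine ⟨k, hk, hkR, fun s hs => ?_⟩
  obtain ⟨σ, c, h⟩ := M.exists_act hs
  rw [hkx]
  have e : (![a⁻¹ * (![a, 0] : Fin 2 → F) 0, a⁻¹⁻¹ * (![a, 0] : Fin 2 → F) 1] : Fin 2 → F) = ![1, 0] := by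
    apply ext2 <;> simp [ha]
  rw [e, ← mul_inv_eq_iff_eq_mul, h]
  congr 1
  apply ext2 <;> simp

end Crd

variable {G : Type u} [Group G] [Finite G] {S : Sylow 2 G} {P : Subgroup G}
variable {F : Type*} [Field F] [Finite F] [CharP F 2]

/-- **`PB` from the frame.** -/
theorem pb_of (h : HypJ S P) (M : Crd F (S : Subgroup G) P (zl (S : Subgroup G) P))
    (hti : ∀ z ∈ M.R, z ≠ 1 → ∀ g : G, g * z = z * g → g ∈ normalizer (M.R : Set G))
    (hNB : normalizer (M.B : Set G) ≤ normalizer (zl (S : Subgroup G) P : Set G))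
    (hW : PT.ws (zl (S : Subgroup G) P) M.R ≤
      centralizer ((PT.ws (zl (S : Subgroup G) P) M.R : Subgroup G) : Set G)) :
    PB S M.B P (zl (S : Subgroup G) P) M.R where
  SP := h.star.isLoc.le
  PN := MinSimple.VModule.le_normalizer_zl _ _
  ZV := M.R_le
  VB := fun v hv => ⟨h.toHypN.toHyp.V_le_S hv, mem_centralizer_iff.2 fun r hr => M.comm (M.R_le hr) hv⟩
  BS := inf_le_left
  Zne := by
    intro hb
    have h1 := M.card_R
    rw [hb, card_bot] at h1
    exact absurd h1 Finite.one_lt_card.ne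
  SN := M.S_R
  mem_B := fun s hs hc => ⟨hs, mem_centralizer_iff.2 fun z hz => (hc z hz).symm⟩
  cen := fun z hz s hs => (mem_centralizer_iff.1 hs.2 z hz).symm
  omega := by
    intro x hx hx2 hc
    exact M.mem_R_of_cent S.isPGroup' h.toHypN.toHyp.V_le_S (MinSimple.VModule.zc_le_zl _ _) x hx
      (by rw [pow_two]; exact hx2) hc
  Vsq := fun v hv => M.sq hv
  part := by
    intro v hv hv1
    obtain ⟨p, hp, h1⟩ := M.part hv hv1
    exact ⟨p, hp, h1⟩
  act := fun s hs v hv => M.act_mem hs hv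
  free := fun s hs v hv hvR hsv => M.free' hs hv hvR hsv
  full := fun v hv hvR z hz => M.full' hv hvR hz
  torus := fun s hs t ht hsV htV => M.torus hs ht hsV htV
  card := M.card_V_R
  Wcomm := hW
  ti := hti
  NS := normalizer_S_le_R M h
  tor := by
    intro z hz hz1
    obtain ⟨k, hk, hkR, h1⟩ := M.tor hz hz1
    exact ⟨k, hk, hkR, h1⟩
  NB := hNB

/-- (T6) -/
theorem omB_of (h : HypJ S P) (M : Crd F (S : Subgroup G) P (zl (S : Subgroup G) P)) :
    OmB M.B (zl (S : Subgroup G) P) := by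
  intro y hy hyV hy2 hc
  have h1 : (S : Subgroup G) ⊓ centralizer (zl (S : Subgroup G) P : Set G) = o2 P :=
    h.toHypN.toHyp.inf_centralizer
  rw [← (HypJ.facts M h).2.1]
  have h3 : y ∈ o2 P := by rw [← h1]; exact ⟨hy.1, hyV⟩
  refine mem_zc.2 ⟨h3, by rw [pow_two]; exact hy2, fun s hs => ?_⟩
  rw [← h1] at hs
  exact hc s ⟨hs.1, centralizer_le M.R_le hs.2⟩ hs.2

end Cfsg.Agent.Omega.NO3S.Fld

end

-- merged: Cfsg.Agent.Mrg.Omega.NO3S.Fld.TI
section

section


/-!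
# Fld: (TI)

`ti` : `C_G(z) ≤ N_G(R)` for `1 ≠ z ∈ R`, from (1) (each member `R'` of `P*(S)` normalises `R`, or has the same
`V` and `C_Z(R') = 1`) and `C_G(Z) ≤ N_G(R)`.
-/

set_option autoImplicit false
set_option linter.unusedSectionVars false

namespace Cfsg.Agent.Omega.NO3S.Fld

open Subgroup Cfsg Cfsg.Agent.ZN Cfsg.Agent.ZN.ChoiceBase Cfsg.Agent.Omega.MinPar
open Cfsg.Agent.Omega.Frame Cfsg.Agent.Omega.FrameNOFF
open Cfsg.Agent.MinSimple.VModule (zc_le_zl)

universe u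

variable {G : Type u} [Group G] [Finite G] {S : Sylow 2 G} {P : Subgroup G}

variable {F : Type*} [Field F] [Finite F] [CharP F 2]

/-- (TI) for `z ∈ Z`. -/
theorem ti_zc (M : Crd F (S : Subgroup G) P (zl (S : Subgroup G) P)) (h : HypJ S P)
    (hU : ∀ R' : Subgroup G, IsParS (S : Subgroup G) R' → R' ≤ normalizer (M.R : Set G) ∨
      zc (S : Subgroup G) ⊓ centralizer (R' : Set G) = ⊥)
    (hZ : CZ (S : Subgroup G) ≤ normalizer (M.R : Set G)) {z : G} (hz : z ∈ zc (S : Subgroup G)) (hz1 : z ≠ 1) :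
    centralizer ({z} : Set G) ≤ normalizer (M.R : Set G) := by
  have hS : (S : Subgroup G) ≤ centralizer ({z} : Set G) := by
    intro s hs
    rw [mem_centralizer_singleton_iff]
    exact (mem_centralizer_iff.1 (le_CZ S hs) z hz).symm
  refine MinSimple.MinParabolic.le_of_forall hS ?_ fun X hX hXz => ?_
  · exact inf_le_right.trans (normalizer_S_le_R M h)
  · have hz2 : z ∈ o2 X := by
      have h1 : zpowers z ≤ X := by
        rw [zpowers_le]
        exact hX.le (zc_le _ hz)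
      have h2 : IsPGroup 2 (zpowers z) := S.isPGroup'.to_le ((zpowers_le).2 (zc_le _ hz))
      have h3 : X ≤ normalizer ((zpowers z : Subgroup G) : Set G) := by
        refine le_trans (fun r hr => ?_) (centralizer_le_normalizer _)
        rw [mem_centralizer_iff]
        rintro _ ⟨k, rfl⟩
        have h4 : Commute r z := mem_centralizer_singleton_iff.1 (hXz hr)
        exact (h4.zpow_right k).eq.symm
      exact MinSimple.VModule.le_o2 h1 h2 h3 (mem_zpowers z)
    have hpar : IsPar (S : Subgroup G) X := ⟨hX, fun h0 => hz1 (by rw [h0] at hz2; exact hz2)⟩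
    by_cases hn : X ≤ normalizer (zc (S : Subgroup G) : Set G)
    · exact (OneLine.le_centralizer_of_le_zc hpar le_rfl hn).trans hZ
    · rcases hU X ⟨hpar, hn⟩ with h1 | h1
      · exact h1
      · exfalso
        have h2 : z ∈ zc (S : Subgroup G) ⊓ centralizer (X : Set G) :=
          ⟨hz, mem_centralizer_iff.2 fun r hr => mem_centralizer_singleton_iff.1 (hXz hr)⟩
        rw [h1] at h2
        exact hz1 h2

/-- **(TI)** -/
theorem ti (h : HypJ S P) (M : Crd F (S : Subgroup G) P (zl (S : Subgroup G) P))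
    (hU : ∀ R' : Subgroup G, IsParS (S : Subgroup G) R' →
      (jj (S : Subgroup G) ≤ o2 R' ∧ R' ≤ normalizer (M.R : Set G)) ∨
      (zl (S : Subgroup G) R' = zl (S : Subgroup G) P ∧ zc (S : Subgroup G) ⊓ centralizer (R' : Set G) = ⊥))
    (hZ : CZ (S : Subgroup G) ≤ normalizer (M.R : Set G)) :
    ∀ z ∈ M.R, z ≠ 1 → ∀ g : G, g * z = z * g → g ∈ normalizer (M.R : Set G) := by
  intro z hz hz1 g hg
  obtain ⟨k, hk, hkR, h1⟩ := M.tor hz hz1
  have h2 : k * z * k⁻¹ ∈ M.R := (mem_normalizer_iff.1 hkR z).1 hz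
  have h3 : k * z * k⁻¹ ∈ zc (S : Subgroup G) := by
    rw [M.zc_eq h.toHypN.toHyp.V_le_S (zc_le_zl _ _)]
    exact ⟨h2, mem_centralizer_iff.2 h1⟩
  have h4 : k * z * k⁻¹ ≠ 1 := fun e => hz1 (conj_eq_one_iff.1 e)
  have h5 : k * g * k⁻¹ ∈ centralizer ({k * z * k⁻¹} : Set G) := by
    rw [mem_centralizer_singleton_iff]
    calc k * g * k⁻¹ * (k * z * k⁻¹) = k * (g * z) * k⁻¹ := by group
      _ = k * (z * g) * k⁻¹ := by rw [hg]
      _ = k * z * k⁻¹ * (k * g * k⁻¹) := by group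
  have h6 := ti_zc M h (fun R' hR' => (hU R' hR').imp (fun e => e.2) fun e => e.2) hZ h3 h4 h5
  have e : g = k⁻¹ * (k * g * k⁻¹) * k := by group
  rw [e]
  exact mul_mem (mul_mem (inv_mem hkR) h6) hkR

end Cfsg.Agent.Omega.NO3S.Fld

end

section


/-!
# Fld: the frame `(R, B)` from `Hyp S P` and `N_G(S) ≤ N_G(R)` (any level)

The theorems of `TI.lean`, `GeoR.lean`, `ToPB.lean` without `HypJ`:

* `ti_zc'`, `ti'` : (TI); `V_R_eq'`, `zl_le_o2_centR'`, `geoR'` : the geometry of the points `R^g`;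
* `pb_of'`, `omB_of'` : `PB S M.B P V M.R`, `OmB M.B V`;
* `pb'` : `PB` from `N_G(S) ≤ N_G(R)`, `N_G(B) ≤ N_G(V)`, (UNIQ) and `C_G(Z) ≤ N_G(R)`.
-/

set_option autoImplicit false
set_option linter.unusedSectionVars false
set_option linter.unusedVariables false

namespace Cfsg.Agent.Omega.NO3S.Fld

open Subgroup Cfsg Cfsg.Agent.ZN Cfsg.Agent.Omega.MinPar
open Cfsg.Agent.Omega.Frame Cfsg.Agent.Omega.FrameNOFF
open Cfsg.Agent.Omega.NO3S.PT (PB OmB)
open Cfsg.Agent.Omega.NoFF.Lines Cfsg.Agent.Omega.NoFF.Basic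
open Cfsg.Agent.MinSimple.VModule (zc_le_zl)
open scoped Pointwise

universe u

variable {G : Type u} [Group G] [Finite G] {S : Sylow 2 G} {P : Subgroup G}
variable {F : Type*} [Field F] [Finite F] [CharP F 2]

/-- (TI) for `z ∈ Z`. -/
theorem ti_zc' (M : Crd F (S : Subgroup G) P (zl (S : Subgroup G) P))
    (hNS : normalizer ((S : Subgroup G) : Set G) ≤ normalizer (M.R : Set G))
    (hU : ∀ R' : Subgroup G, IsParS (S : Subgroup G) R' → R' ≤ normalizer (M.R : Set G) ∨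
      zc (S : Subgroup G) ⊓ centralizer (R' : Set G) = ⊥)
    (hZ : CZ (S : Subgroup G) ≤ normalizer (M.R : Set G)) {z : G} (hz : z ∈ zc (S : Subgroup G)) (hz1 : z ≠ 1) :
    centralizer ({z} : Set G) ≤ normalizer (M.R : Set G) := by
  have hS : (S : Subgroup G) ≤ centralizer ({z} : Set G) := by
    intro s hs
    rw [mem_centralizer_singleton_iff]
    exact (mem_centralizer_iff.1 (le_CZ S hs) z hz).symm
  refine MinSimple.MinParabolic.le_of_forall hS ?_ fun X hX hXz => ?_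
  · exact inf_le_right.trans (hNS)
  · have hz2 : z ∈ o2 X := by
      have h1 : zpowers z ≤ X := by
        rw [zpowers_le]
        exact hX.le (zc_le _ hz)
      have h2 : IsPGroup 2 (zpowers z) := S.isPGroup'.to_le ((zpowers_le).2 (zc_le _ hz))
      have h3 : X ≤ normalizer ((zpowers z : Subgroup G) : Set G) := by
        refine le_trans (fun r hr => ?_) (centralizer_le_normalizer _)
        rw [mem_centralizer_iff]
        rintro _ ⟨k, rfl⟩
        have h4 : Commute r z := mem_centralizer_singleton_iff.1 (hXz hr)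
        exact (h4.zpow_right k).eq.symm
      exact MinSimple.VModule.le_o2 h1 h2 h3 (mem_zpowers z)
    have hpar : IsPar (S : Subgroup G) X := ⟨hX, fun h0 => hz1 (by rw [h0] at hz2; exact hz2)⟩
    by_cases hn : X ≤ normalizer (zc (S : Subgroup G) : Set G)
    · exact (OneLine.le_centralizer_of_le_zc hpar le_rfl hn).trans hZ
    · rcases hU X ⟨hpar, hn⟩ with h1 | h1
      · exact h1
      · exfalso
        have h2 : z ∈ zc (S : Subgroup G) ⊓ centralizer (X : Set G) :=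
          ⟨hz, mem_centralizer_iff.2 fun r hr => mem_centralizer_singleton_iff.1 (hXz hr)⟩
        rw [h1] at h2
        exact hz1 h2

/-- **(TI)** -/
theorem ti' (h : Hyp S P) (M : Crd F (S : Subgroup G) P (zl (S : Subgroup G) P))
    (hNS : normalizer ((S : Subgroup G) : Set G) ≤ normalizer (M.R : Set G))
    (hU : ∀ R' : Subgroup G, IsParS (S : Subgroup G) R' → R' ≤ normalizer (M.R : Set G) ∨
      zc (S : Subgroup G) ⊓ centralizer (R' : Set G) = ⊥)
    (hZ : CZ (S : Subgroup G) ≤ normalizer (M.R : Set G)) :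
    ∀ z ∈ M.R, z ≠ 1 → ∀ g : G, g * z = z * g → g ∈ normalizer (M.R : Set G) := by
  intro z hz hz1 g hg
  obtain ⟨k, hk, hkR, h1⟩ := M.tor hz hz1
  have h2 : k * z * k⁻¹ ∈ M.R := (mem_normalizer_iff.1 hkR z).1 hz
  have h3 : k * z * k⁻¹ ∈ zc (S : Subgroup G) := by
    rw [M.zc_eq h.V_le_S (zc_le_zl _ _)]
    exact ⟨h2, mem_centralizer_iff.2 h1⟩
  have h4 : k * z * k⁻¹ ≠ 1 := fun e => hz1 (conj_eq_one_iff.1 e)
  have h5 : k * g * k⁻¹ ∈ centralizer ({k * z * k⁻¹} : Set G) := by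
    rw [mem_centralizer_singleton_iff]
    calc k * g * k⁻¹ * (k * z * k⁻¹) = k * (g * z) * k⁻¹ := by group
      _ = k * (z * g) * k⁻¹ := by rw [hg]
      _ = k * z * k⁻¹ * (k * g * k⁻¹) := by group
  have h6 := ti_zc' M hNS hU hZ h3 h4 h5
  have e : g = k⁻¹ * (k * g * k⁻¹) * k := by group
  rw [e]
  exact mul_mem (mul_mem (inv_mem hkR) h6) hkR

section geo

open Cfsg.Agent.Omega.NO3S.PT

/-- `⟨R^P⟩ = V` -/
theorem V_R_eq' (h : Hyp S P) (M : Crd F (S : Subgroup G) P (zl (S : Subgroup G) P)) :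
    NoFF.Basic.V M.R P = zl (S : Subgroup G) P := by
  have hG := h.ctx.char2
  have hb := bl_of hG h.star M
  have hVS : zl (S : Subgroup G) P ≤ (S : Subgroup G) := (BL.zl_le_o2 hG hb).trans (hb.QB.trans hb.BS)
  have hPV : P ≤ normalizer (zl (S : Subgroup G) P : Set G) := MinSimple.VModule.le_normalizer_zl _ _
  have hZR : zc (S : Subgroup G) ≤ M.R := by
    rw [M.zc_eq hVS (MinSimple.VModule.zc_le_zl _ _)]
    exact inf_le_left
  apply le_antisymm
  · refine iSup_le fun p => ?_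
    have h1 := cj_le_cj (g := (p : G)).2 hb.RV
    rwa [cj_eq_iff.2 (hPV p.2)] at h1
  · have h1 : NoFF.Basic.V (zc (S : Subgroup G)) P ≤ NoFF.Basic.V M.R P :=
      iSup_mono fun p => cj_le_cj.2 hZR
    exact h1

/-- `V ≤ O₂(C_G(R)) ≤ B` -/
theorem zl_le_o2_centR' (h : Hyp S P) (M : Crd F (S : Subgroup G) P (zl (S : Subgroup G) P)) :
    zl (S : Subgroup G) P ≤ o2 (centralizer (M.R : Set G)) ∧ o2 (centralizer (M.R : Set G)) ≤ M.B := by
  have hG := h.ctx.char2
  have hb := bl_of hG h.star M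
  have hVS : zl (S : Subgroup G) P ≤ (S : Subgroup G) := (BL.zl_le_o2 hG hb).trans (hb.QB.trans hb.BS)
  have hZR : zc (S : Subgroup G) ≤ M.R := by
    rw [M.zc_eq hVS (MinSimple.VModule.zc_le_zl _ _)]
    exact inf_le_left
  set K := centralizer (M.R : Set G) with hK
  have hKC : K ≤ CZ (S : Subgroup G) := centralizer_le hZR
  have hVK : zl (S : Subgroup G) P ≤ K := by
    intro v hv
    rw [hK, mem_centralizer_iff]
    exact fun r hr => M.comm (hb.RV hr) hv
  constructor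
  · let O : Subgroup G := ⨆ k : K, cj (k : G) (zl (S : Subgroup G) P)
    have hO1 : zl (S : Subgroup G) P ≤ O := by
      have := le_iSup (fun k : K => cj (k : G) (zl (S : Subgroup G) P)) 1
      rwa [OneMemClass.coe_one, cj_one] at this
    have hOW : O ≤ WW (S : Subgroup G) P := iSup_le fun k => conj_zl_le_WW (hKC k.2)
    have hO2 : IsPGroup 2 O := fun w => ⟨1, Subtype.ext (by simpa using h.W_sq w (hOW w.2))⟩
    have hOK : O ≤ K := iSup_le fun k => by
      have h1 := cj_le_cj (g := (k : G)).2 hVK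
      have h2 : cj (k : G) K = K := conj_self k.2
      rwa [h2] at h1
    have hn : K ≤ normalizer (O : Set G) := by
      have key : ∀ g ∈ K, cj g O ≤ O := by
        intro g hg
        rw [cj_le_iff]
        refine iSup_le fun k => ?_
        rw [le_cj_iff, inv_inv, cj_cj]
        exact le_iSup (fun k : K => cj (k : G) (zl (S : Subgroup G) P)) ⟨g * k, mul_mem hg k.2⟩
      intro g hg
      rw [← cj_eq_iff]
      refine le_antisymm (key g hg) ?_
      rw [le_cj_iff]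
      exact key g⁻¹ (inv_mem hg)
    exact hO1.trans (MinSimple.VModule.le_o2 hOK hO2 hn)
  · have hSN : (S : Subgroup G) ≤ normalizer (M.R : Set G) := hb.RS
    have hsyl : Cfsg.Agent.ZN.ChoiceSit.Syl (S : Subgroup G) (normalizer (M.R : Set G)) :=
      ⟨hSN, S.isPGroup', fun _ _ hT hST => S.is_maximal' hT hST⟩
    have hKN : K ≤ normalizer (M.R : Set G) := centralizer_le_normalizer _
    have hcj : ∀ c ∈ normalizer (M.R : Set G), c ∈ normalizer (o2 K : Set G) := by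
      intro c hc
      have h1 : ChoiceBase.cj c K = K := by
        have h2 : cj c K = K := by rw [hK, cj_centralizer, cj_eq_iff.2 hc]
        exact h2
      rw [ChoiceBase.mem_normalizer_iff_cj, ← Cfsg.Agent.ZN.ChoiceSit.o2_cj, h1]
    have h1 : o2 K ≤ o2 (normalizer (M.R : Set G)) :=
      MinSimple.VModule.le_o2 ((MinSimple.VModule.o2_le K).trans hKN) (Cfsg.Agent.ZN.ChoiceSit.isPGroup_o2 K) hcj
    exact le_inf (h1.trans (Cfsg.Agent.ZN.ChoiceSit.o2_le_syl hsyl)) (MinSimple.VModule.o2_le K)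

/-- **The geometry of the points `R^g`** -/
theorem geoR' (h : Hyp S P) (M : Crd F (S : Subgroup G) P (zl (S : Subgroup G) P)) :
    Geo M.B M.R (normalizer (M.R : Set G)) {P} := by
  have hG := h.ctx.char2
  have hb := bl_of hG h.star M
  obtain ⟨hV1, hV2⟩ := zl_le_o2_centR' h M
  have hVe := V_R_eq' h M
  have hVS : zl (S : Subgroup G) P ≤ (S : Subgroup G) := (BL.zl_le_o2 hG hb).trans (hb.QB.trans hb.BS)
  exact
    { ZS := hb.RV.trans (hV1.trans hV2)
      cent := inf_le_right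
      SP := by rintro Q rfl; exact hb.BS.trans hb.star.le
      abel := by
        rintro Q rfl
        rw [hVe]
        exact fun v hv => mem_centralizer_iff.2 fun w hw => M.comm hw hv
      core := by
        rintro Q rfl p hpp x hx hxc
        rw [hVe] at hxc
        have h1 : x ∈ o2 Q := by
          rw [← h.inf_centralizer]
          exact ⟨hb.BS hx, hxc⟩
        have h3 : cj p (o2 Q) = o2 Q := cj_eq_iff.2 (MinSimple.VModule.le_normalizer_o2 Q hpp)
        rw [← h3] at h1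
        exact cj_le_cj.2 hb.QB h1
      noff := by
        rintro Q rfl Q' rfl g h1 h2
        rw [hVe] at h1 h2 ⊢
        exact h.geo.noff _ (Set.mem_singleton _) _ (Set.mem_singleton _) g h1 h2
      CZ := le_rfl
      cen := centralizer_le_normalizer _
      low := by
        rintro Q rfl c hc
        rw [hVe]
        have h1 : cj c (o2 (centralizer (M.R : Set G))) = o2 (centralizer (M.R : Set G)) := by
          have h2 : ChoiceBase.cj c (centralizer (M.R : Set G)) = centralizer (M.R : Set G) := by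
            have h3 : cj c (centralizer (M.R : Set G)) = centralizer (M.R : Set G) := by
              rw [cj_centralizer, cj_eq_iff.2 hc]
            exact h3
          have h4 : ChoiceBase.cj c (o2 (centralizer (M.R : Set G))) = o2 (centralizer (M.R : Set G)) := by
            rw [← Cfsg.Agent.ZN.ChoiceSit.o2_cj, h2]
          exact h4
        rw [← h1] at hV1
        exact hV1.trans (cj_le_cj.2 hV2)
      Zsq := fun z hz => by rw [pow_two]; exact M.sq (hb.RV hz) }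

end geo

/-- **`PB` from the frame.** -/
theorem pb_of' (h : Hyp S P) (M : Crd F (S : Subgroup G) P (zl (S : Subgroup G) P))
    (hNS : normalizer ((S : Subgroup G) : Set G) ≤ normalizer (M.R : Set G))
    (hti : ∀ z ∈ M.R, z ≠ 1 → ∀ g : G, g * z = z * g → g ∈ normalizer (M.R : Set G))
    (hNB : normalizer (M.B : Set G) ≤ normalizer (zl (S : Subgroup G) P : Set G))
    (hW : PT.ws (zl (S : Subgroup G) P) M.R ≤
      centralizer ((PT.ws (zl (S : Subgroup G) P) M.R : Subgroup G) : Set G)) :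
    PB S M.B P (zl (S : Subgroup G) P) M.R where
  SP := h.star.isLoc.le
  PN := MinSimple.VModule.le_normalizer_zl _ _
  ZV := M.R_le
  VB := fun v hv => ⟨h.V_le_S hv, mem_centralizer_iff.2 fun r hr => M.comm (M.R_le hr) hv⟩
  BS := inf_le_left
  Zne := by
    intro hb
    have h1 := M.card_R
    rw [hb, card_bot] at h1
    exact absurd h1 Finite.one_lt_card.ne
  SN := M.S_R
  mem_B := fun s hs hc => ⟨hs, mem_centralizer_iff.2 fun z hz => (hc z hz).symm⟩
  cen := fun z hz s hs => (mem_centralizer_iff.1 hs.2 z hz).symm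
  omega := by
    intro x hx hx2 hc
    exact M.mem_R_of_cent S.isPGroup' h.V_le_S (MinSimple.VModule.zc_le_zl _ _) x hx
      (by rw [pow_two]; exact hx2) hc
  Vsq := fun v hv => M.sq hv
  part := by
    intro v hv hv1
    obtain ⟨p, hp, h1⟩ := M.part hv hv1
    exact ⟨p, hp, h1⟩
  act := fun s hs v hv => M.act_mem hs hv
  free := fun s hs v hv hvR hsv => M.free' hs hv hvR hsv
  full := fun v hv hvR z hz => M.full' hv hvR hz
  torus := fun s hs t ht hsV htV => M.torus hs ht hsV htV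
  card := M.card_V_R
  Wcomm := hW
  ti := hti
  NS := hNS
  tor := by
    intro z hz hz1
    obtain ⟨k, hk, hkR, h1⟩ := M.tor hz hz1
    exact ⟨k, hk, hkR, h1⟩
  NB := hNB

/-- (T6) -/
theorem omB_of' (h : Hyp S P) (M : Crd F (S : Subgroup G) P (zl (S : Subgroup G) P))
    (hT6 : zc (o2 P) = zl (S : Subgroup G) P) :
    OmB M.B (zl (S : Subgroup G) P) := by
  intro y hy hyV hy2 hc
  have h1 : (S : Subgroup G) ⊓ centralizer (zl (S : Subgroup G) P : Set G) = o2 P :=
    h.inf_centralizer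
  rw [← hT6]
  have h3 : y ∈ o2 P := by rw [← h1]; exact ⟨hy.1, hyV⟩
  refine ChoiceBase.mem_zc.2 ⟨h3, by rw [pow_two]; exact hy2, fun s hs => ?_⟩
  rw [← h1] at hs
  exact hc s ⟨hs.1, centralizer_le M.R_le hs.2⟩ hs.2

/-- **The frame `(R, B)`**, any level. -/
theorem pb' (h : Hyp S P) (M : Crd F (S : Subgroup G) P (zl (S : Subgroup G) P))
    (hNS : normalizer ((S : Subgroup G) : Set G) ≤ normalizer (M.R : Set G))
    (hNB : normalizer (M.B : Set G) ≤ normalizer (zl (S : Subgroup G) P : Set G))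
    (hU : ∀ R' : Subgroup G, IsParS (S : Subgroup G) R' → R' ≤ normalizer (M.R : Set G) ∨
      zc (S : Subgroup G) ⊓ centralizer (R' : Set G) = ⊥)
    (hCZ : CZ (S : Subgroup G) ≤ normalizer (M.R : Set G)) :
    PB S M.B P (zl (S : Subgroup G) P) M.R := by
  have hti := ti' h M hNS hU hCZ
  refine pb_of' h M hNS hti hNB ?_
  exact PT.wcomm_of M.S_R hti hNS
    (by
      intro z hz hz1
      obtain ⟨k, hk, hkR, h1⟩ := M.tor hz hz1
      exact ⟨k, hk, hkR, h1⟩)
    (by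
      intro hb
      have h1 := M.card_R
      rw [hb, card_bot] at h1
      exact absurd h1 Finite.one_lt_card.ne)
    (MinSimple.VModule.le_normalizer_zl _ _)
    (by
      intro v hv hv1
      obtain ⟨p, hp, h1⟩ := M.part hv hv1
      exact ⟨p, hp, h1⟩) (geoR' h M) (V_R_eq' h M)

end Cfsg.Agent.Omega.NO3S.Fld

end

end

-- merged: Cfsg.Agent.Mrg.Omega.NO3S.Fld.RedFourEnd
section

section


/-!
# Fld, `q = 4`: the end of the reduction

* `ff_of` : the FF-LEMMA for `P₂ ∈ P(S)`, `P₂ ≤ C_G(Z)`, `J(S) ≰ O₂(P₂)`;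
* `red4_or` : `C_G(Z) ≤ N_G(R)`, or `Cfg4` with some `P₂ ≤ N_G(V)`.
-/

set_option autoImplicit false
set_option linter.unusedSectionVars false

namespace Cfsg.Agent.Omega.NO3S.Fld

open Subgroup Cfsg Cfsg.Agent.ZN Cfsg.Agent.ZN.ChoiceBase Cfsg.Agent.Omega.MinPar Cfsg.Agent.Omega.FrameNOFF
open Cfsg.Agent.ZN.ChoiceSit (Syl o2_le_syl)
open Cfsg.Agent.MinSimple.VModule (oddGen oddGen_le)

universe u

variable {G : Type u} [Group G] [Finite G] {S : Sylow 2 G} {P P2 : Subgroup G}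

/-- The FF-LEMMA for a minimal parabolic in `C_G(Z)`. -/
theorem ff_of (hAS : FFBr.AStmt.{u}) (par : IsPar (S : Subgroup G) P2) (le : P2 ≤ CZ (S : Subgroup G))
    (hJ : ¬ jj (S : Subgroup G) ≤ o2 P2) : zc (o2 P2) ≤ centralizer (oddGen P2 : Set G) := by
  have hsyl : Syl (S : Subgroup G) P2 := ⟨par.le, S.isPGroup', fun _ _ hT hST => S.is_maximal' hT hST⟩
  have hQS : o2 P2 ≤ (S : Subgroup G) := o2_le_syl hsyl
  refine NO3b.K0.ff_lemma hAS hsyl par.toIsMinPar hJ ((MinSimple.VModule.zc_le _).trans (hQS.trans par.le)) (fun y hy => (ChoiceBase.mem_zc.1 hy).2.1)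
    ?_ ?_ ?_ ?_
  · intro x hx
    rw [mem_centralizer_iff]
    intro y hy
    exact (ChoiceBase.mem_zc.1 hx).2.2 y (ChoiceBase.mem_zc.1 hy).1
  · intro g hg
    have hgQ := MinSimple.VModule.le_normalizer_o2 P2 hg
    apply mem_normalizer_of_cj_le
    intro x hx
    rw [mem_cj] at hx
    have h1 := ChoiceBase.mem_zc.1 hx
    have hcj : ∀ y, y ∈ o2 P2 ↔ g⁻¹ * y * g ∈ o2 P2 := by
      intro y
      have := mem_normalizer_iff.1 (inv_mem hgQ) y
      rwa [inv_inv] at this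
    refine ChoiceBase.mem_zc.2 ⟨(hcj x).2 h1.1, ?_, fun y hy => ?_⟩
    · have e : x ^ 2 = g * (g⁻¹ * x * g) ^ 2 * g⁻¹ := by rw [pow_two, pow_two]; group
      rw [e, h1.2.1]; group
    · have h2 := h1.2.2 _ ((hcj y).1 hy)
      have e1 : y * x = g * (g⁻¹ * y * g * (g⁻¹ * x * g)) * g⁻¹ := by group
      have e2 : x * y = g * (g⁻¹ * x * g * (g⁻¹ * y * g)) * g⁻¹ := by group
      rw [e1, e2, h2]
  · intro q hq
    rw [mem_centralizer_iff]
    intro y hy
    exact ((ChoiceBase.mem_zc.1 hy).2.2 q hq).symm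
  · rintro x ⟨hx, hxS⟩
    have h1 := ChoiceBase.mem_zc.1 hx
    have hxZ : x ∈ zc (S : Subgroup G) := ChoiceBase.mem_zc.2 ⟨hQS h1.1, h1.2.1, fun s hs => mem_centralizer_iff.1 hxS s hs⟩
    rw [mem_centralizer_iff]
    intro g hg
    exact (mem_centralizer_iff.1 (le (oddGen_le P2 hg)) x hxZ).symm

/-- `J(S) ≤ O₂(P₂)` implies that `P₂` normalises `Ω₁(Z(J(S)))`. -/
theorem norm_zj_of (par : IsPar (S : Subgroup G) P2) (hJ : jj (S : Subgroup G) ≤ o2 P2) :
    P2 ≤ normalizer (zj (S : Subgroup G) : Set G) := by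
  have hsyl : Syl (S : Subgroup G) P2 := ⟨par.le, S.isPGroup', fun _ _ hT hST => S.is_maximal' hT hST⟩
  have h1 : jj (o2 P2) = jj (S : Subgroup G) := jj_eq_of_jj_le hJ (o2_le_syl hsyl)
  intro p hp
  rw [mem_normalizer_iff_cj, ← zj_congr h1, ← zj_cj,
    NO3b.K0.cj_of_le (MinSimple.VModule.le_normalizer_o2 P2) hp]

/-- **`q = 4`**: `C_G(Z) ≤ N_G(R)`, or some `P₂ ∈ P(S)` in `C_G(Z) ∩ N_G(V)` moves `R`. -/
theorem red4_or {F : Type*} [Field F] [Finite F] [CharP F 2] (hAS : FFBr.AStmt.{u}) (h : HypJ S P)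
    (M : Crd F (S : Subgroup G) P (zl (S : Subgroup G) P)) (hF : Nat.card F = 4)
    (hZ : Nat.card (zc (S : Subgroup G)) ≠ 4) :
    CZ (S : Subgroup G) ≤ normalizer (M.R : Set G) ∨
      ∃ (P2 V3 : Subgroup G) (z : G), Cfg4 S P P2 M.R V3 z ∧ P2 ≤ normalizer (zl (S : Subgroup G) P : Set G) := by
  by_cases hall : ∀ P2 : Subgroup G, IsPar (S : Subgroup G) P2 → P2 ≤ CZ (S : Subgroup G) →
      P2 ≤ normalizer (M.R : Set G)
  · left
    have hloc : IsLoc (S : Subgroup G) (CZ (S : Subgroup G)) :=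
      isLoc_of_le_normalizer S (le_CZ S) (S.isPGroup'.to_le (MinSimple.VModule.zc_le _)) h.toHyp.zc_ne
        (centralizer_le_normalizer _)
    exact hloc.le_of_forall S (inf_le_right.trans (normalizer_S_le_R M h)) hall
  · right
    push Not at hall
    obtain ⟨P2, par, le, mv⟩ := hall
    have hzj : zj (S : Subgroup G) = M.R := (HypJ.facts M h).2.2
    have hJ : ¬ jj (S : Subgroup G) ≤ o2 P2 := fun h0 => mv (hzj ▸ norm_zj_of par h0)
    obtain ⟨V3, z, hc⟩ := exists_cfg4 h M hF hZ par le mv (ff_of hAS par le hJ)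
    exact ⟨P2, V3, z, hc, hc.norm_V (hc.idx hAS) (hc.jj_L_le hAS)⟩

end Cfsg.Agent.Omega.NO3S.Fld

end

section


/-!
# Fld: the frame `(R, B)` in the case `HypJ`

* `pb` : `PB S M.B P V M.R` from `HypJ S P`, `NatP` and `C_G(Z) ≤ N_G(R)`;
* `four_or_CZ` : `C_G(Z) ≤ N_G(R)` unless `|F| = 4` and `|Z| ≠ 4`;
* `exists_pb_or` : the frame, or the configuration `Cfg4` (`|F| = 4`).
-/

set_option autoImplicit false
set_option linter.unusedSectionVars false
set_option linter.unusedVariables false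

namespace Cfsg.Agent.Omega.NO3S.Fld

open Subgroup Cfsg Cfsg.Agent.ZN Cfsg.Agent.ZN.ChoiceBase Cfsg.Agent.Omega.MinPar
open Cfsg.Agent.Omega.Frame Cfsg.Agent.Omega.FrameNOFF
open Cfsg.Agent.Omega.NO3S.PT (PB OmB)
open Cfsg.Agent.MinSimple.VModule (zc_le_zl)

universe u

variable {G : Type u} [Group G] [Finite G] {S : Sylow 2 G} {P : Subgroup G}
variable {F : Type*} [Field F] [Finite F] [CharP F 2]

/-- **The frame `(R, B)`** -/
theorem pb (h : HypJ S P) (M : Crd F (S : Subgroup G) P (zl (S : Subgroup G) P))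
    (hCZ : CZ (S : Subgroup G) ≤ normalizer (M.R : Set G)) :
    PB S M.B P (zl (S : Subgroup G) P) M.R := by
  have hti := ti h M (fun R' hR' => (uniqB FF.Glob.ffthm h M hR').imp id fun e => ⟨e.1, e.2.2⟩) hCZ
  refine pb_of h M hti (norm_B_le_V h M) ?_
  exact PT.wcomm_of M.S_R hti (normalizer_S_le_R M h)
    (by
      intro z hz hz1
      obtain ⟨k, hk, hkR, h1⟩ := M.tor hz hz1
      exact ⟨k, hk, hkR, h1⟩)
    (by
      intro hb
      have h1 := M.card_R
      rw [hb, card_bot] at h1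
      exact absurd h1 Finite.one_lt_card.ne)
    (MinSimple.VModule.le_normalizer_zl _ _)
    (by
      intro v hv hv1
      obtain ⟨p, hp, h1⟩ := M.part hv hv1
      exact ⟨p, hp, h1⟩) (geoR h.toHypN.toHyp M) (V_R_eq h.toHypN.toHyp M)

/-- `|F| = 4` or `|F| ≥ 16` if `Ω₁(Z(S)) < R` -/
theorem card_four_or (h : HypJ S P) (M : Crd F (S : Subgroup G) P (zl (S : Subgroup G) P))
    (hZ : Nat.card (zc (S : Subgroup G)) ≠ Nat.card F) : Nat.card F = 4 ∨ 16 ≤ Nat.card F := by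
  have hn := M.not_le_centR h.toHypN.toHyp.V_le_S (zc_le_zl _ _) hZ
  obtain ⟨φ, h1, h2⟩ := M.exists_involution S.isPGroup' hn
  have h3 : orderOf φ = 2 := by
    rw [orderOf_eq_prime_iff]
    refine ⟨?_, h1⟩
    ext x
    rw [pow_two]
    exact h2 x
  have h4 := Red.card_eq_pow φ
  rw [h3] at h4
  have := Fintype.ofFinite F
  obtain ⟨n, -, hn⟩ := FiniteField.card F 2
  rw [← Nat.card_eq_fintype_card] at hn
  have h5 : (2 : ℕ) ∣ Nat.card (Red.K φ 1) := by
    have h6 : (2 : ℕ) ∣ Nat.card (Red.K φ 1) ^ 2 := by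
      rw [← h4, hn]
      exact dvd_pow_self 2 n.ne_zero
    exact Nat.prime_two.dvd_of_dvd_pow h6
  obtain ⟨k, hk⟩ := h5
  have hk0 : 0 < k := by
    rcases Nat.eq_zero_or_pos k with h6 | h6
    · have : 2 ≤ Nat.card (Red.K φ 1) := Red.two_le_card_K_one φ
      omega
    · exact h6
  rcases Nat.lt_or_ge k 2 with h6 | h6
  · left
    have : k = 1 := by omega
    rw [h4, hk, this]
    norm_num
  · right
    rw [h4, hk]
    nlinarith

theorem CZ_le_of_eq (h : HypJ S P) (M : Crd F (S : Subgroup G) P (zl (S : Subgroup G) P))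
    (hZ : Nat.card (zc (S : Subgroup G)) = Nat.card F) : CZ (S : Subgroup G) ≤ normalizer (M.R : Set G) := by
  have h1 := M.le_centR h.toHypN.toHyp.V_le_S (zc_le_zl _ _) hZ
  have h2 := M.zc_eq h.toHypN.toHyp.V_le_S (zc_le_zl _ _)
  have h3 : zc (S : Subgroup G) = M.R := by
    rw [h2, inf_eq_left]
    rwa [le_centralizer_iff]
  rw [← h3]
  exact centralizer_le_normalizer _

/-- **THEOREM RED**: `C_G(Z) ≤ N_G(R)` unless `|F| = 4` and `|Z| ≠ 4` -/
theorem four_or_CZ (h : HypJ S P) (M : Crd F (S : Subgroup G) P (zl (S : Subgroup G) P)) :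
    CZ (S : Subgroup G) ≤ normalizer (M.R : Set G) ∨ (Nat.card F = 4 ∧ Nat.card (zc (S : Subgroup G)) ≠ 4) := by
  by_cases hZ : Nat.card (zc (S : Subgroup G)) = Nat.card F
  · exact Or.inl (CZ_le_of_eq h M hZ)
  · rcases card_four_or h M hZ with h4 | h16
    · exact Or.inr ⟨h4, by rwa [h4] at hZ⟩
    · exact Or.inl (red M h h16)

/-- **The frame `(R, B)`, or the configuration `Cfg4` with `|F| = 4`.** -/
theorem exists_pb_or (h : HypJ S P) (M : Crd F (S : Subgroup G) P (zl (S : Subgroup G) P)) :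
    (PB S M.B P (zl (S : Subgroup G) P) M.R ∧ OmB M.B (zl (S : Subgroup G) P)) ∨
      ∃ (P2 V3 : Subgroup G) (z : G), Nat.card F = 4 ∧ Nat.card (zc (S : Subgroup G)) ≠ 4 ∧
        Cfg4 S P P2 M.R V3 z ∧ P2 ≤ normalizer (zl (S : Subgroup G) P : Set G) := by
  rcases four_or_CZ h M with h1 | ⟨h4, hZ⟩
  · exact Or.inl ⟨pb h M h1, omB_of h M⟩
  · rcases red4_or FF.Glob.aStmt h M h4 hZ with h1 | ⟨P2, V3, z, h1, h2⟩
    · exact Or.inl ⟨pb h M h1, omB_of h M⟩
    · exact Or.inr ⟨P2, V3, z, h4, hZ, h1, h2⟩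

end Cfsg.Agent.Omega.NO3S.Fld

end

section


/-!
# Fld, THEOREM RED (#15355, #15515), `|F| = 4`

* `red4` : `HypJ S P`, `V_P` natural for `SL₂(4)`, `|Ω₁(Z(S))| ≠ 4` ⟹ `C_G(Z) ≤ N_G(R)` or some `P₁ ∈ P*(S)`, `P₁ ≤ P`,
  has `⟨P₁, C_G(Z)⟩` nonlocal and `|V_{P₁}| = 4`.
-/

set_option autoImplicit false

namespace Cfsg.Agent.Omega.NO3S.Fld

open Subgroup Cfsg Cfsg.Agent.ZN Cfsg.Agent.Omega.MinPar Cfsg.Agent.Omega.FrameNOFF

universe u

variable {G : Type u} [Group G] [Finite G] {S : Sylow 2 G} {P : Subgroup G}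

/-- **THEOREM RED, `q = 4`.** -/
theorem red4 {F : Type*} [Field F] [Finite F] [CharP F 2] (hAS : FFBr.AStmt.{u}) (h : HypJ S P)
    (M : Crd F (S : Subgroup G) P (zl (S : Subgroup G) P)) (hF : Nat.card F = 4)
    (hZ : Nat.card (zc (S : Subgroup G)) ≠ 4) :
    CZ (S : Subgroup G) ≤ normalizer (M.R : Set G) ∨
      ∃ P1 : Subgroup G, IsParS (S : Subgroup G) P1 ∧ P1 ≤ P ∧ NonLoc P1 (CZ (S : Subgroup G)) ∧
        Nat.card (zl (S : Subgroup G) P1) = 4 := by
  rcases red4_or hAS h M hF hZ with h1 | ⟨P2, V3, z, h2, h3⟩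
  · exact Or.inl h1
  · exact Or.inr (h2.exists_four M hF rfl h3)

end Cfsg.Agent.Omega.NO3S.Fld

end

end

-- merged: Cfsg.Agent.Mrg.Omega.NO3S.BetaFF.Main
section

/-!
# THEOREM BETA-FF(1) (helper284 #19171): the frame `FrB` for a natural line without fields, moved by a `W_F ≤ S`

* `Fr.frB` : `HypN S P`, the frame, `|Z| = |K| > 2`, all lines of `P*(S)` in `V` and `P*(S) ≤ N(V)`,
  `Ω₁(Z(O₂(P))) ≤ V` ⟹ `FrB K S P M.B M.R`;
* `frB_lev` : the same at a level `K₀ ≤ O₂(R)` for all `R ∈ P*(S)`, `V = Ω₁(Z(K₀))`, `W_F ≤ S`, `W_F ≰ O₂(P)`.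
-/

set_option autoImplicit false
set_option linter.unusedVariables false

namespace Cfsg.Agent.Omega.BetaFF

open Subgroup Cfsg Cfsg.Agent.Omega.NOne.Flat Cfsg.Agent.Omega.NO3S.Fld Cfsg.Agent.Omega.MinPar
open Cfsg.Agent.ZN (o2 zl zc)
open Cfsg.Agent.MinSimple.VModule (zc_le zc_le_zl zl_le le_o2 le_normalizer_zl le_normalizer_o2 oddGen oddGen_le)
open Cfsg.Agent.Omega.FFThm (OffM NoOverM StmtM)
open Cfsg.Agent.Omega.FrameNOFF (CZ)
open Cfsg.Agent.Omega.NO3S (HypN Uniq FrB)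
open Cfsg.Agent.Omega.NO3S.Level
open scoped Pointwise

universe u

variable {G : Type u} [Group G] [Finite G] {S : Sylow 2 G} {P Q V F : Subgroup G}

/-- The frame `FrB` from `Uniq S P` and (T6), no fields. -/
theorem frB_of_uniq (h : HypN S P) {K : Type} [Field K] [Finite K] [CharP K 2]
    (M : Crd K (S : Subgroup G) P (zl (S : Subgroup G) P)) (hZ : Nat.card (zc (S : Subgroup G)) = Nat.card K)
    (hu : Uniq (S : Subgroup G) P) (hT6 : zc (o2 P) = zl (S : Subgroup G) P) : FrB K S P M.B M.R := by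
  have hR : M.R = zc (S : Subgroup G) := by
    refine (Subgroup.eq_of_le_of_card_ge (fun z hz => ?_) (by rw [M.card_R, hZ])).symm
    exact M.mem_R_of_comm (zc_le_zl _ _ hz) fun b hb _ => (ZN.mem_zc.1 hz).2.1 b hb
  have hB : M.B = (S : Subgroup G) := by
    refine le_antisymm inf_le_left (le_inf le_rfl ?_)
    rw [hR]
    intro s hs
    rw [mem_centralizer_iff]
    exact fun z hz => ((ZN.mem_zc.1 hz).2.1 s hs).symm
  have hNS : normalizer ((S : Subgroup G) : Set G) ≤ normalizer (M.R : Set G) := by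
    rw [hR]
    exact NO3S.Level.normalizer_le_zc _
  have hCZ : CZ (S : Subgroup G) ≤ normalizer (M.R : Set G) := by
    rw [hR]
    exact centralizer_le_normalizer _
  refine ⟨pb' h.toHyp M hNS ?_ (fun R hR' => Or.inr (hu.cen R hR')) hCZ, omB_of' h.toHyp M hT6, M.card_R,
    fun Q hQ => Or.inr (hu.eq Q hQ)⟩
  rw [hB]
  exact hu.ns h.star

/-- **THEOREM BETA-FF(1)**: the frame `FrB`. -/
theorem Fr.frB (hFF : StmtM.{u}) (h : HypN S P) {K : Type} [Field K] [Finite K] [CharP K 2]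
    (fr : Fr K S P V F (zl (S : Subgroup G) P) (UU (S : Subgroup G))) (hK : 2 < Nat.card K)
    (hZ : Nat.card (zc (S : Subgroup G)) = Nat.card K)
    (hall : ∀ R, IsParS (S : Subgroup G) R → R ≤ normalizer (V : Set G) ∧ zl (S : Subgroup G) R ≤ V)
    (hzo : zc (o2 P) ≤ V) : FrB K S P fr.M.B fr.M.R :=
  frB_of_uniq h fr.M hZ
    (fr.toUniq hFF h.ctx.char2 h.star hK hZ (nOff h) hall fun R hR => zl_le_UU hR)
    (fr.zc_o2 hFF h.ctx.char2 h.star hzo)

/-- **THEOREM BETA-FF(1), at a level** `K₀ ≤ O₂(R)` for all `R ∈ P*(S)`. -/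
theorem frB_lev (hFF : StmtM.{u}) (h : HypN S P) {K₀ : Subgroup G} (hL : Lev (S : Subgroup G) K₀)
    (hpar : ∀ R, IsParS (S : Subgroup G) R → K₀ ≤ o2 R) (hf : NOne.Flat.Hyp (zc K₀) F)
    (hW : WW (zc K₀) F ≤ (S : Subgroup G)) (hm : ¬ WW (zc K₀) F ≤ o2 P) {K : Type} [Field K] [Finite K] [CharP K 2]
    (M : Crd K (S : Subgroup G) P (zl (S : Subgroup G) P)) (hK : 2 < Nat.card K)
    (hZ : Nat.card (zc (S : Subgroup G)) = Nat.card K) : FrB K S P M.B M.R := by
  have hG := h.ctx.char2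
  have hall : ∀ R, IsParS (S : Subgroup G) R → R ≤ normalizer ((zc K₀ : Subgroup G) : Set G) ∧ zc (o2 R) ≤ zc K₀ :=
    fun R hR => ⟨(hL.le_norm_of_o2 (hpar R hR) (hR.isLoc.o2_le S)).trans (NO3S.Level.normalizer_le_zc K₀),
      hL.zc_o2_le (hpar R hR) (hR.isLoc.o2_le S)⟩
  obtain ⟨fr, rfl⟩ := exists_fr h hf (hall P h.star).1 ((h.star.isLoc.zl_le S hG).trans (hall P h.star).2) hW hm M
  exact fr.frB hFF h hK hZ (fun R hR => ⟨(hall R hR).1, (hR.isLoc.zl_le S hG).trans (hall R hR).2⟩)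
    (hall P h.star).2

end Cfsg.Agent.Omega.BetaFF

end

-- merged: Cfsg.Agent.Mrg.Omega.NO3S.Fld.LevEnd
section

section


/-!
# The socket `RedL`: the frame `(R, B)` for a natural line at any level

* `frame_lev` : the frame at the level `K` from `C_G(Z) ≤ N_G(R)`;
* `card_four_or'`, `CZ_le_of_eq'` : `|F| = 4` or `|F| ≥ 16` if `|Z| < |F|`; `C_G(Z) ≤ N_G(R)` if `|Z| = |F|`;
* `RedFourL` : `q = 4`, `|Z| = 2` at the level `n`, the only open input;
* `redL` : `RedL K` from `RedFourL`.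
-/

set_option autoImplicit false
set_option linter.unusedSectionVars false

namespace Cfsg.Agent.Omega.NO3S.Fld

open Subgroup Cfsg Cfsg.Agent.ZN Cfsg.Agent.ZN.ChoiceBase Cfsg.Agent.Omega.MinPar
open Cfsg.Agent.Omega.Frame Cfsg.Agent.Omega.FrameNOFF
open Cfsg.Agent.Omega.NO3S.PT (PB OmB)
open Cfsg.Agent.MinSimple.VModule (zc_le zc_le_zl)
open Cfsg.Agent.Omega.NO3S.OneLine (zc_elem o2_le bo bo_eq)
open Cfsg.Agent.Omega.NO3S.Level

universe u

section frame

variable {G : Type u} [Group G] [Finite G] {S : Sylow 2 G} {P K : Subgroup G}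
variable {F : Type*} [Field F] [Finite F] [CharP F 2]

/-- LEMMA UNIQ over `B` at the level `K`. -/
theorem uniq_lev (h : HypN S P) (M : Crd F (S : Subgroup G) P (zl (S : Subgroup G) P)) (hL : LevF M K)
    (hpar : ∀ R : Subgroup G, IsParS (S : Subgroup G) R → K ≤ o2 R) {P' : Subgroup G}
    (hP' : IsParS (S : Subgroup G) P') :
    P' ≤ normalizer (M.R : Set G) ∨
      (zl (S : Subgroup G) P' = zl (S : Subgroup G) P ∧ zc (S : Subgroup G) ⊓ centralizer (P' : Set G) = ⊥) := by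
  have hG := h.ctx.char2
  have hb : ∀ R : Subgroup G, IsParS (S : Subgroup G) R → R ≤ normalizer (zc K : Set G) ∧ zc (o2 R) ≤ zc K :=
    fun R hR => ⟨(hL.lev.le_norm_of_o2 (hpar R hR) (o2_le S hR.toIsPar)).trans (normalizer_le_zc K),
      hL.lev.zc_o2_le (hpar R hR) (o2_le S hR.toIsPar)⟩
  have h1 := uniqB_bo FF.Glob.ffthmM hG h.noFF (zc_elem K) h.star M (hb P h.star).1 (hb P h.star).2 hL.zo
    (fun A hA => (hL.AB A (by rw [bo_eq]; exact hA)).trans inf_le_right)
    (by rw [← bo_eq]; exact hL.cent.le) (by rw [← bo_eq]; exact hL.ex) hP' (hb P' hP').1 (hb P' hP').2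
  rcases h1 with h1 | h1
  · exact Or.inl h1.2
  · exact Or.inr ⟨h1.1, h1.2.2⟩

/-- **The frame at the level `K`.** -/
theorem frame_lev (h : HypN S P) (M : Crd F (S : Subgroup G) P (zl (S : Subgroup G) P)) (hL : LevF M K)
    (hpar : ∀ R : Subgroup G, IsParS (S : Subgroup G) R → K ≤ o2 R)
    (hno : FFThm.NoOverM (zl (S : Subgroup G) P) P) (hCZ : CZ (S : Subgroup G) ≤ normalizer (M.R : Set G)) :
    PB S M.B P (zl (S : Subgroup G) P) M.R ∧ OmB M.B (zl (S : Subgroup G) P) ∧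
      ∀ Q : Subgroup G, IsParS (S : Subgroup G) Q →
        Q ≤ normalizer (M.R : Set G) ∨ zl (S : Subgroup G) Q = zl (S : Subgroup G) P := by
  obtain ⟨A, hA, hAQ⟩ := hL.ex
  refine ⟨?_, omB_of' h.toHyp M hL.zo, fun Q hQ => (uniq_lev h M hL hpar hQ).imp id fun e => e.1⟩
  exact pb' h.toHyp M hL.NS (norm_B_le_V_lev h.toHyp M hL.lev hL.le hA hAQ hno)
    (fun Q hQ => (uniq_lev h M hL hpar hQ).imp id fun e => e.2) hCZ

/-- `|F| = 4` or `|F| ≥ 16` if `Ω₁(Z(S)) < R` -/
theorem card_four_or' (h : Hyp S P) (M : Crd F (S : Subgroup G) P (zl (S : Subgroup G) P))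
    (hZ : Nat.card (zc (S : Subgroup G)) ≠ Nat.card F) : Nat.card F = 4 ∨ 16 ≤ Nat.card F := by
  have hn := M.not_le_centR h.V_le_S (zc_le_zl _ _) hZ
  obtain ⟨φ, h1, h2⟩ := M.exists_involution S.isPGroup' hn
  have h3 : orderOf φ = 2 := by
    rw [orderOf_eq_prime_iff]
    refine ⟨?_, h1⟩
    ext x
    rw [pow_two]
    exact h2 x
  have h4 := Red.card_eq_pow φ
  rw [h3] at h4
  have := Fintype.ofFinite F
  obtain ⟨n, -, hn⟩ := FiniteField.card F 2
  rw [← Nat.card_eq_fintype_card] at hn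
  have h5 : (2 : ℕ) ∣ Nat.card (Red.K φ 1) := by
    have h6 : (2 : ℕ) ∣ Nat.card (Red.K φ 1) ^ 2 := by
      rw [← h4, hn]
      exact dvd_pow_self 2 n.ne_zero
    exact Nat.prime_two.dvd_of_dvd_pow h6
  obtain ⟨k, hk⟩ := h5
  have hk0 : 0 < k := by
    rcases Nat.eq_zero_or_pos k with h6 | h6
    · have : 2 ≤ Nat.card (Red.K φ 1) := Red.two_le_card_K_one φ
      omega
    · exact h6
  rcases Nat.lt_or_ge k 2 with h6 | h6
  · left
    have : k = 1 := by omega
    rw [h4, hk, this]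
    norm_num
  · right
    rw [h4, hk]
    nlinarith

theorem CZ_le_of_eq' (h : Hyp S P) (M : Crd F (S : Subgroup G) P (zl (S : Subgroup G) P))
    (hZ : Nat.card (zc (S : Subgroup G)) = Nat.card F) : CZ (S : Subgroup G) ≤ normalizer (M.R : Set G) := by
  have h1 := M.le_centR h.V_le_S (zc_le_zl _ _) hZ
  have h2 := M.zc_eq h.V_le_S (zc_le_zl _ _)
  have h3 : zc (S : Subgroup G) = M.R := by
    rw [h2, inf_eq_left]
    rwa [le_centralizer_iff]
  rw [← h3]
  exact centralizer_le_normalizer _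

end frame

/-- **THEOREM RED for `q = 4`, `|Z| = 2`, at the level `n`** (helper240 #15515, helper417). -/
def RedFourL : Prop :=
  ∀ (G : Type u) [Group G] [Finite G], ∀ (S : Sylow 2 G) (P : Subgroup G), HypL S P →
    ∀ (F : Type) [Field F] [Finite F] [CharP F 2], Nat.card F = 4 → Nat.card (zc (S : Subgroup G)) ≠ 4 →
      ∀ (M : Crd F (S : Subgroup G) P (zl (S : Subgroup G) P)) (n : ℕ),
        (∀ R : Subgroup G, IsParS (S : Subgroup G) R → lev (S : Subgroup G) n ≤ o2 R) →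
          ¬ lev (S : Subgroup G) (n + 1) ≤ o2 P → CZ (S : Subgroup G) ≤ normalizer (M.R : Set G)

/-- **THE SOCKET `RedL`.** -/
theorem redL (h4 : RedFourL.{u}) (K : Cls.{u}) : RedL K := by
  intro G _ _ hK S P h F _ _ _ hq N
  left
  obtain ⟨M⟩ := exists_crd h.toHyp N
  have hG := h.ctx.char2
  by_cases hJ : jj (S : Subgroup G) ≤ o2 P
  · -- the level `n`
    obtain ⟨n, hn, hn1⟩ : ∃ n, (∀ R : Subgroup G, IsParS (S : Subgroup G) R → lev (S : Subgroup G) n ≤ o2 R) ∧
        ¬ lev (S : Subgroup G) (n + 1) ≤ o2 P := by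
      rcases h.stage with h1 | ⟨n, h1, h2⟩
      · exact absurd hJ h1
      · exact ⟨n, h1, h2⟩
    have hL := levF_of hG h.star M (hn P h.star) hn1
    have hCZ : CZ (S : Subgroup G) ≤ normalizer (M.R : Set G) := by
      by_cases hZ : Nat.card (zc (S : Subgroup G)) = Nat.card F
      · exact CZ_le_of_eq' h.toHyp M hZ
      · rcases card_four_or' h.toHyp M hZ with h5 | h16
        · exact h4 G S P h F h5 (by rwa [h5] at hZ) M n hn hn1
        · exact red_lev h.toHyp M h16 (hn P h.star) hL.nxt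
    obtain ⟨h1, h2, h3⟩ := frame_lev h.toHypN M hL hn h.concl.1 hCZ
    exact ⟨M.B, M.R, h1, h2, M.card_R, h3⟩
  · -- stage `-1`
    have h' : HypJ S P := ⟨h.toHypN, hJ⟩
    have hCZ : CZ (S : Subgroup G) ≤ normalizer (M.R : Set G) := by
      rcases four_or_CZ h' M with h1 | ⟨h5, hZ⟩
      · exact h1
      · rcases red4 FF.Glob.aStmt h' M h5 hZ with h1 | ⟨P1, h1, -, h2, h3⟩
        · exact h1
        · exact absurd h3 (h.four P1 ⟨h1, h2⟩)
    exact ⟨M.B, M.R, pb h' M hCZ, omB_of h' M, M.card_R, fun Q hQ =>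
      (uniqB FF.Glob.ffthm h' M hQ).imp (fun e => e.2) fun e => e.1⟩

end Cfsg.Agent.Omega.NO3S.Fld

end

section


/-!
# The socket `GammaFF` of the leaf NO-3S: the tree (helper781, cut #19713, #21519)

`K₀` = the largest weakly closed subgroup of `S` in all `O₂(R)`, `R ∈ P*(S)`; `X₀ = Ω₁(Z(K₀))`, `M₀ = N_G(K₀)`,
`M_Z = ⟨P*(S)⟩` (`Level/Top.lean`, `ThmD.lean`, `Cut.lean`, `CaseL.lean`).

```
GammaFF
├── (L)   CaseL S P : X₀ = V_P, P ∈ P**; then K₀ = O₂(P), Ω₁(Z(O₂(P))) = V_P, N_G(O₂(P)) ≤ N_G(V_P)  : Ends K CaseLP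
├── (F)   HypG S M_Z                                                                                  : NotFFG K
├── (W)   WSt S P F : no offender on X₀; F a maximal bad subgroup of X₀, W_F ≤ S moves V_P, P ∈ P*(S)
│   ├── (S1)          C_Z(P) ≠ 1 for all active members P of P*(S)                                    : GamRad K
│   ├── (S2), (S3)    C_Z(P) = 1: UNIQ = all R ∈ P*(S) normalise V_P                                  : GamUniq K
│   └── (S5)          P ∈ P**, all R ∈ P*(S) normalise V_P                                            : Ends K FiveP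
├── (C2)  NFRoot S M₀, V_{M_Z} = V_R                                                                  : GamTwo K
└── (G)   CaseG S P : no offender on X₀, no bad subgroup of X₀, V_{M₀} = V_P                          : GamG K
```

`Ends K H` : the FF-ends over the frame `H` (`CaseLP`, `FiveP`) by types: `red : RedH` (the frame `FrB` if `|Z| < |F|`),
`w : WH` (`FullK`), `multiTwo : MultiTwoH`, `multiQ : MultiQH`, `symTwo : SymTwoH`, `symBig : SymBigH`,
`symMany : SymManyH`; `Ends.known`.  Without fields (`|Z| = |F|`) the frame `FrB` is `frB_caseL`, `frB_five` (THEOREM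
BETA-FF(1), helper749).  `redH_caseL` : in the case (L) `RedH` is `C_G(Z) ≤ N_G(R)` (`RedCZL`).
`GamOpen` (the open inputs), `gammaFF_of : GamOpen K → FOneB K → OneB K → MidBF K → FarBF K → NotFFG K → GammaFF K`.
-/

set_option autoImplicit false

namespace Cfsg.Agent.Omega.NO3S

open Subgroup Cfsg Cfsg.Agent.ZN Cfsg.Agent.Omega.MinPar Cfsg.Agent.Omega.Frame Cfsg.Agent.Omega.FrameNOFF
open Cfsg.Agent.Omega.FrameFF (NatOver cv Single Free)
open Cfsg.Agent.Omega.FFThm (NatKM SymKM)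
open Cfsg.Agent.Omega.NoFF.Lines
open Cfsg.Agent.Omega.NO3S.Level
open Cfsg.Agent.Omega.NO3S.Fld (Crd)
open Cfsg.Agent.Omega.NOThreeL.Merge (MZ HypG NotFFG)
open Cfsg.Agent.Omega.NOThreeL.MergeNF (NFRoot)

universe u

/-- A frame for a line. -/
abbrev FrP := ∀ (G : Type u) [Group G] [Finite G], Sylow 2 G → Subgroup G → Prop

section ends

variable (K : Cls.{u}) (H : FrP.{u})

/-- `V_P` natural for `SL₂(F)`, `|Z| < |F|`: the frame `FrB`. -/
def RedH : Prop :=
  ∀ (G : Type u) [Group G] [Finite G], K G → ∀ (S : Sylow 2 G) (P : Subgroup G), H G S P →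
    ∀ (F : Type) [Field F] [Finite F] [CharP F 2], 4 ≤ Nat.card F → Nat.card (zc (S : Subgroup G)) ≠ Nat.card F →
      NatP F (zl (S : Subgroup G) P) P → (∃ B R : Subgroup G, FrB F S P B R) ∨ IsKnownSimple' G

/-- `V_P` natural for `SL₂(F)`: the frame `FrB`. -/
def RedAllH : Prop :=
  ∀ (G : Type u) [Group G] [Finite G], K G → ∀ (S : Sylow 2 G) (P : Subgroup G), H G S P →
    ∀ (F : Type) [Field F] [Finite F] [CharP F 2], 4 ≤ Nat.card F → NatP F (zl (S : Subgroup G) P) P →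
      (∃ B R : Subgroup G, FrB F S P B R) ∨ IsKnownSimple' G

/-- `V_P` natural for `SL₂(F)`: `FullK`, given (F1). -/
def WH : Prop :=
  ∀ (G : Type u) [Group G] [Finite G], K G → ∀ (S : Sylow 2 G) (P : Subgroup G), H G S P →
    ∀ (F : Type) [Field F] [Finite F] [CharP F 2], 4 ≤ Nat.card F → NatP F (zl (S : Subgroup G) P) P →
      ∀ B R : Subgroup G, FrB F S P B R →
        ¬ PT.kx (zl (S : Subgroup G) P) R ≤ centralizer (zl (S : Subgroup G) P : Set G) → ∀ (n : ℕ) (y : G), 2 ≤ n →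
          Crit R (normalizer (R : Set G)) {P} n 1 y → FullK (zl (S : Subgroup G) P) R ∨ IsKnownSimple' G

/-- `k ≥ 2` natural `SL₂(2)`-modules. -/
def MultiTwoH : Prop :=
  ∀ (G : Type u) [Group G] [Finite G], K G → ∀ (S : Sylow 2 G) (P : Subgroup G), H G S P →
    ∀ (F : Type) [Field F] [Finite F] [CharP F 2] (k : ℕ), 2 ≤ k → Nat.card F = 2 →
      NatKM F (S : Subgroup G) P (zl (S : Subgroup G) P) (cv (S : Subgroup G) P) k → IsKnownSimple' G

/-- `k ≥ 2` natural `SL₂(q)`-modules, `q ≥ 4`. -/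
def MultiQH : Prop :=
  ∀ (G : Type u) [Group G] [Finite G], K G → ∀ (S : Sylow 2 G) (P : Subgroup G), H G S P →
    ∀ (F : Type) [Field F] [Finite F] [CharP F 2] (k : ℕ), 2 ≤ k → 4 ≤ Nat.card F →
      NatKM F (S : Subgroup G) P (zl (S : Subgroup G) P) (cv (S : Subgroup G) P) k → IsKnownSimple' G

/-- The even-subset module of `S₅`. -/
def SymTwoH : Prop :=
  ∀ (G : Type u) [Group G] [Finite G], K G → ∀ (S : Sylow 2 G) (P : Subgroup G), H G S P →
    SymKM (S : Subgroup G) P (zl (S : Subgroup G) P) (cv (S : Subgroup G) P) 1 2 → IsKnownSimple' G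

/-- The even-subset module of `S_{2^m+1}`, `m ≥ 3`. -/
def SymBigH : Prop :=
  ∀ (G : Type u) [Group G] [Finite G], K G → ∀ (S : Sylow 2 G) (P : Subgroup G), H G S P → ∀ m : ℕ, 3 ≤ m →
    SymKM (S : Subgroup G) P (zl (S : Subgroup G) P) (cv (S : Subgroup G) P) 1 m → IsKnownSimple' G

/-- `k ≥ 2` even-subset modules. -/
def SymManyH : Prop :=
  ∀ (G : Type u) [Group G] [Finite G], K G → ∀ (S : Sylow 2 G) (P : Subgroup G), H G S P →
    ∀ k m : ℕ, 2 ≤ k → 2 ≤ m →
      SymKM (S : Subgroup G) P (zl (S : Subgroup G) P) (cv (S : Subgroup G) P) k m → IsKnownSimple' G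

end ends

/-- **The FF-ends over a frame.** -/
structure Ends (K : Cls.{u}) (H : FrP.{u}) : Prop where
  red : RedH K H
  w : WH K H
  multiTwo : MultiTwoH K H
  multiQ : MultiQH K H
  symTwo : SymTwoH K H
  symBig : SymBigH K H
  symMany : SymManyH K H

/-- The case (L). -/
def CaseLP : FrP.{u} := fun _ _ _ S P => CaseL S P

/-- The case (S5): some `W_F ≤ S` moves `V_P`, `P ∈ P**`, and all `R ∈ P*(S)` normalise `V_P`. -/
def FiveP : FrP.{u} := fun G _ _ S P =>
  PSS (S : Subgroup G) P ∧ (∃ F, WSt S P F) ∧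
    (∀ R, IsParS (S : Subgroup G) R → R ≤ normalizer (zl (S : Subgroup G) P : Set G)) ∧
    zl (S : Subgroup G) (MZ (S : Subgroup G)) = zl (S : Subgroup G) P

section sockets

variable (K : Cls.{u})

/-- **(S1)**: all active members have `C_Z(P) ≠ 1`. Paper: helper198 #20829, 335 #21537, #21629, 283 #20415. -/
def GamRad : Prop :=
  ∀ (G : Type u) [Group G] [Finite G], K G → ∀ (S : Sylow 2 G) (P F : Subgroup G), WSt S P F →
    (∀ R F' : Subgroup G, WSt S R F' → zc (S : Subgroup G) ⊓ centralizer (R : Set G) ≠ ⊥) → IsKnownSimple' G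

/-- **(S2), (S3), UNIQ**: an active member with `C_Z(P) = 1`: `V_P` is FF and all members of `P*(S)` normalise `V_P`.
Paper: helper424 #21003, 422 #21271, 800, 793, 284 #21569. -/
def GamUniq : Prop :=
  ∀ (G : Type u) [Group G] [Finite G], K G → ∀ (S : Sylow 2 G) (P F : Subgroup G), WSt S P F →
    zc (S : Subgroup G) ⊓ centralizer (P : Set G) = ⊥ →
      (FFMod (S : Subgroup G) P ∧
        ∀ R, IsParS (S : Subgroup G) R → R ≤ normalizer (zl (S : Subgroup G) P : Set G)) ∨ IsKnownSimple' G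

/-- **(C2)**. Paper: helper706 #20287, 194 #20969, 235 #20914. -/
def GamTwo : Prop :=
  ∀ (G : Type u) [Group G] [Finite G], K G → ∀ S : Sylow 2 G, W0 S → NFRoot (S : Subgroup G) (M0 (S : Subgroup G)) →
    ∀ R : Subgroup G, PSS (S : Subgroup G) R →
      zl (S : Subgroup G) (MZ (S : Subgroup G)) = zl (S : Subgroup G) R → IsKnownSimple' G

/-- **(G)** = (S4). Paper: helper826 #20856, 577 #20925. -/
def GamG : Prop :=
  ∀ (G : Type u) [Group G] [Finite G], K G → ∀ (S : Sylow 2 G) (P : Subgroup G), CaseG S P → IsKnownSimple' G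

/-- `C_G(Z) ≤ N_G(R)` in the case (L), `|Z| < |F|`. -/
def RedCZL : Prop :=
  ∀ (G : Type u) [Group G] [Finite G], K G → ∀ (S : Sylow 2 G) (P : Subgroup G), CaseL S P →
    ∀ (F : Type) [Field F] [Finite F] [CharP F 2], 4 ≤ Nat.card F → Nat.card (zc (S : Subgroup G)) ≠ Nat.card F →
      ∀ M : Crd F (S : Subgroup G) P (zl (S : Subgroup G) P), CZ (S : Subgroup G) ≤ normalizer (M.R : Set G) ∨
        IsKnownSimple' G

end sockets

/-- **The open inputs of `GammaFF`.** -/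
structure GamOpen (K : Cls.{u}) : Prop where
  l : Ends K CaseLP
  rad : GamRad K
  uniq : GamUniq K
  five : Ends K FiveP
  two : GamTwo K
  g : GamG K

section frames

variable {G : Type u} [Group G] [Finite G] {S : Sylow 2 G} {P : Subgroup G}

/-- The frame in the case (L), from `C_G(Z) ≤ N_G(R)`. -/
theorem frB_caseL_of (h : CaseL S P) {F : Type} [Field F] [Finite F] [CharP F 2]
    (M : Crd F (S : Subgroup G) P (zl (S : Subgroup G) P)) (hCZ : CZ (S : Subgroup G) ≤ normalizer (M.R : Set G)) :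
    FrB F S P M.B M.R := by
  have hG := h.ctx.char2
  obtain ⟨A, hA, hAQ⟩ : ∃ A ∈ BO (S : Subgroup G) (K0 (S : Subgroup G)), ¬ A ≤ o2 P := by
    obtain ⟨A, hAS, hAo⟩ := h.ff P h.pss
    by_contra hcon
    push Not at hcon
    have h1 : nxt (S : Subgroup G) (K0 (S : Subgroup G)) ≤ K0 (S : Subgroup G) := by
      rw [h.K0_eq] at hcon ⊢
      refine sup_le ?_ (sSup_le hcon)
      rw [h.zc_eq, IsParS.inf_centralizer S hG h.pss.par]
    have w : W0 S := { toHypC := h.toHypC, ff := h.ff, nxt := h1 }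
    refine w.noOff (A := A) (hAS.trans ((S_le_M0 _).trans (M0_norm _))) ?_
    rw [h.eq]
    exact hAo
  have hL := Fld.levF hG h.pss.par M h.lev h.K0_eq.le hA hAQ
  have hno := (h.hypN.toHyp.ff FF.Glob.ffthmM (h.ff P h.pss)).1
  obtain ⟨h1, h2, h3⟩ := Fld.frame_lev h.hypN M hL (fun R hR => K0_le_o2 hR) hno hCZ
  exact ⟨h1, h2, M.card_R, h3⟩

/-- The frame in the case (L), `|Z| = |F|`. -/
theorem frB_caseL (h : CaseL S P) {F : Type} [Field F] [Finite F] [CharP F 2]
    (M : Crd F (S : Subgroup G) P (zl (S : Subgroup G) P)) (hZ : Nat.card (zc (S : Subgroup G)) = Nat.card F) :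
    FrB F S P M.B M.R := frB_caseL_of h M (Fld.CZ_le_of_eq' h.hypN.toHyp M hZ)

/-- The frame in the W-stage, `|Z| = |F|`: THEOREM BETA-FF(1). -/
theorem frB_wst {F₀ : Subgroup G} (h : WSt S P F₀) (hN : NonLoc P (CZ (S : Subgroup G))) {F : Type} [Field F]
    [Finite F] [CharP F 2] (hF : 4 ≤ Nat.card F) (M : Crd F (S : Subgroup G) P (zl (S : Subgroup G) P))
    (hZ : Nat.card (zc (S : Subgroup G)) = Nat.card F) : FrB F S P M.B M.R :=
  BetaFF.frB_lev FF.Glob.ffthmM (h.toHypC.hypN h.par hN) h.toW0.lev (fun R hR => K0_le_o2 hR) h.hyp h.WS h.mv M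
    (by omega) hZ

end frames

variable {K : Cls.{u}} {H : FrP.{u}}

/-- All of `red` in the case (L). -/
theorem redAll_caseL (h : RedH K CaseLP) : RedAllH K CaseLP := by
  intro G _ _ hK S P hP F _ _ _ hF N
  by_cases hZ : Nat.card (zc (S : Subgroup G)) = Nat.card F
  · obtain ⟨M⟩ := Fld.exists_crd (CaseL.hypN hP).toHyp N
    exact Or.inl ⟨_, _, frB_caseL hP M hZ⟩
  · exact h G hK S P hP F hF hZ N

/-- In the case (L) `red` is `C_G(Z) ≤ N_G(R)`. -/
theorem redH_caseL (h : RedCZL K) : RedH K CaseLP := by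
  intro G _ _ hK S P hP F _ _ _ hF hZ N
  obtain ⟨M⟩ := Fld.exists_crd (CaseL.hypN hP).toHyp N
  exact (h G hK S P hP F hF hZ M).imp (fun h1 => ⟨_, _, frB_caseL_of hP M h1⟩) id

/-- All of `red` in the case (S5). -/
theorem redAll_five (h : RedH K FiveP) : RedAllH K FiveP := by
  intro G _ _ hK S P hP F _ _ _ hF N
  by_cases hZ : Nat.card (zc (S : Subgroup G)) = Nat.card F
  · obtain ⟨F₀, hw⟩ := hP.2.1
    obtain ⟨M⟩ := Fld.exists_crd (hw.toHypC.hypN hP.1.par hP.1.nonLoc).toHyp N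
    exact Or.inl ⟨_, _, frB_wst hw hP.1.nonLoc hF M hZ⟩
  · exact h G hK S P hP F hF hZ N

/-- **The ends.** -/
theorem Ends.known (E : Ends K H) (h0 : RedAllH K H) (h1 : FOneB K) (h2 : OneB K) (h3 : MidBF K) (h4 : FarBF K)
    {G : Type u} [Group G] [Finite G] (hK : K G) {S : Sylow 2 G} {P : Subgroup G} (h : H G S P) (hF : HypF S P)
    (hff : FFMod (S : Subgroup G) P) : IsKnownSimple' G := by
  obtain ⟨-, ⟨F, _, _, _, k, hk, ⟨M⟩⟩ | ⟨k, m, hk, hm, ⟨M⟩⟩⟩ := hF.toHyp.ff FF.Glob.ffthmM hff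
  · rcases Nat.lt_or_ge k 2 with hk2 | hk2
    · obtain rfl : k = 1 := by omega
      obtain ⟨F, _, _, _, ⟨M⟩⟩ := hF.toHyp.exists_natP M.toNatK.single
      rcases card_field' (F := F) with h5 | h5
      · exact absurd (by rw [M.card, h5]; norm_num) (hF.four P hF.toHyp.pss)
      · rcases h0 G hK S P h F h5 M with ⟨B, R, hB⟩ | h6
        · obtain ⟨n, hn, y, hy⟩ := hB.exists_crit hF.toHyp
          rcases Nat.lt_or_ge n 2 with h4' | h4'
          · obtain rfl : n = 1 := by omega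
            exact h2 G hK S P hF F h5 M B R hB y hy
          rcases h1 G hK S P hF F h5 M B R hB n y (by omega) hy with h7 | h7
          · rcases E.w G hK S P h F h5 M B R hB h7 n y h4' hy with h8 | h8
            · rcases Nat.lt_or_ge n 3 with h9 | h9
              · obtain rfl : n = 2 := by omega
                exact h3 G hK S P hF F h5 M B R hB h8 y hy
              · exact h4 G hK S P hF F h5 M B R hB h8 n y h9 hy
            · exact h8
          · exact h7
        · exact h6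
    · rcases card_field' (F := F) with h5 | h5
      · exact E.multiTwo G hK S P h F k hk2 h5 M
      · exact E.multiQ G hK S P h F k hk2 h5 M
  · rcases Nat.lt_or_ge k 2 with hk2 | hk2
    · obtain rfl : k = 1 := by omega
      rcases Nat.lt_or_ge m 3 with hm2 | hm2
      · obtain rfl : m = 2 := by omega
        exact E.symTwo G hK S P h M
      · exact E.symBig G hK S P h m hm2 M
    · exact E.symMany G hK S P h k m hk2 hm M

/-- `FiveP` from UNIQ. -/
theorem exists_five {G : Type u} [Group G] [Finite G] {S : Sylow 2 G} {P F : Subgroup G} (h : WSt S P F)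
    (hff : FFMod (S : Subgroup G) P)
    (hall : ∀ R, IsParS (S : Subgroup G) R → R ≤ normalizer (zl (S : Subgroup G) P : Set G))
    (hc : (∃ R, PSS (S : Subgroup G) R ∧
        zl (S : Subgroup G) (MZ (S : Subgroup G)) = zl (S : Subgroup G) R) ∨
      (¬ FFMod (S : Subgroup G) (MZ (S : Subgroup G)) ∧
        ¬ zl (S : Subgroup G) (MZ (S : Subgroup G)) ≤ o2 (CZ (S : Subgroup G)))) : ∃ R, FiveP G S R := by
  have hG := h.ctx.char2
  have he : zl (S : Subgroup G) (MZ (S : Subgroup G)) = zl (S : Subgroup G) P := by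
    refine le_antisymm (ZN.zl_le ZN.zc_le_zl (sSup_le fun R hR => hall R hR)) ?_
    exact ZN.zl_le ZN.zc_le_zl (le_trans (le_sSup h.par) (ZN.le_normalizer_zl _ _))
  rcases hc with ⟨R, hR, hRe⟩ | ⟨h1, -⟩
  · have e1 : zl (S : Subgroup G) R = zl (S : Subgroup G) P := hRe.symm.trans he
    have e2 : o2 R = o2 P := by
      rw [← IsParS.inf_centralizer S hG hR.par, ← IsParS.inf_centralizer S hG h.par, e1]
    refine ⟨R, hR, ⟨F, { toW0 := h.toW0, par := hR.par, hyp := h.hyp, WS := h.WS, mv := ?_ }⟩, ?_, hRe⟩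
    · rw [e2]; exact h.mv
    · rw [e1]; exact hall
  · refine absurd ?_ h1
    obtain ⟨A, hA, hAo⟩ := hff
    exact ⟨A, hA, by rw [he]; exact hAo⟩

/-- **`GammaFF`.** -/
theorem gammaFF_of (I : GamOpen K) (h1 : FOneB K) (h2 : OneB K) (h3 : MidBF K) (h4 : FarBF K) (h5 : NotFFG K) :
    GammaFF K := by
  intro G _ _ hK S h hV
  have hff : ∀ P, PSS (S : Subgroup G) P → FFMod (S : Subgroup G) P := fun P hP => (hV P hP).2
  rcases cut' h hff (fun P hP => (hV P hP).1) with ⟨P, hP⟩ | hG | ⟨P, F, hw, hc⟩ | ⟨w, hn, R, hR, he⟩ | ⟨P, hP⟩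
  · exact I.l.known (redAll_caseL I.l.red) h1 h2 h3 h4 hK (H := CaseLP) hP hP.hypF (hP.ff P hP.pss)
  · exact h5 G hK S _ hG
  · by_cases hr : ∀ R F' : Subgroup G, WSt S R F' → zc (S : Subgroup G) ⊓ centralizer (R : Set G) ≠ ⊥
    · exact I.rad G hK S P F hw hr
    · push Not at hr
      obtain ⟨P', F', hw', hz⟩ := hr
      rcases I.uniq G hK S P' F' hw' hz with ⟨hfP, hall⟩ | hk
      · obtain ⟨R, hR⟩ := exists_five hw' hfP hall hc
        exact I.five.known (redAll_five I.five.red) h1 h2 h3 h4 hK (H := FiveP) hR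
          { toHypN := h.hypN hR.1.par hR.1.nonLoc, four := fun Q hQ => h.four Q hQ.par hQ.nonLoc } (hff R hR.1)
      · exact hk
  · exact I.two G hK S w hn R hR he
  · exact I.g G hK S P hP

end Cfsg.Agent.Omega.NO3S

end

end
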